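import Cfsg.Agent.Lib.QuadFixed.Main
import Cfsg.Agent.Lib.QdSection
import Cfsg.Agent.Lib.Elementary
import Cfsg.Agent.Lib.ZJ.Theorem
import Cfsg.Prelude.Def_LocalEven

/-!
A quadratically acting element outside the stability kernel gives `PSL₂(p)` in the fixed points of coprime
operators (`p ≥ 5`).
-/

set_option autoImplicit false
set_option linter.unusedSectionVars false

namespace CfsgLib.QuadFixed

open Subgroup
open scoped commutatorElement

universe u

variable {p : ℕ} [Fact p.Prime]

theorem semi_of_minimal {M : Type u} [AddCommGroup M] [Module (ZMod p) M] [FiniteDimensional (ZMod p) M]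
    (T : Subgroup (LinearMap.GeneralLinearGroup (ZMod p) M)) (hne : ∃ m : M, m ≠ 0)
    (h : ∀ W : Submodule (ZMod p) M, QP.Inv T W → W = ⊥ ∨ W = ⊤) : QP.Semi T := by
  obtain ⟨m, hm⟩ := hne
  refine top_le_iff.mp (le_sSup ⟨fun e => hm ?_, fun _ _ _ _ => Submodule.mem_top, fun W _ hW hW0 =>
    (h W hW).resolve_left hW0⟩)
  exact (Submodule.mem_bot _).mp (e ▸ Submodule.mem_top)

variable {X : Type u} [Group X] [Finite X]

/-- The irreducible case, for an abstract action. -/
theorem exists_sl2_of_action (hp : 5 ≤ p) (G A : Subgroup X) [G.Normal]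
    (hcop : (Nat.card A).Coprime (Nat.card G)) (V : Type u) [Group V] [Finite V] [Nontrivial V]
    (hc : ∀ x y : V, x * y = y * x) (he : ∀ x : V, x ^ p = 1) (c : X →* MulAut V)
    (hmin : ∀ K : Subgroup V, (∀ g, ∀ v ∈ K, c g v ∈ K) → K = ⊥ ∨ K = ⊤) {a : X} (ha : a ∈ G)
    (hq : ∀ v, c a (c a v * v⁻¹) = c a v * v⁻¹) (hout : c a ≠ 1) :
    ∃ (K : Subgroup X) (f : K →* Matrix.SpecialLinearGroup (Fin 2) (ZMod p) ⧸
        center (Matrix.SpecialLinearGroup (Fin 2) (ZMod p))),
      K ≤ G ⊓ centralizer (A : Set X) ∧ Function.Surjective f := by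
  classical
  letI : CommGroup V := { (inferInstance : Group V) with mul_comm := hc }
  have hn : ∀ x : Additive V, p • x = 0 := fun x => by
    show Additive.ofMul ((Additive.toMul x) ^ p) = 0
    rw [he]; rfl
  letI : Module (ZMod p) (Additive V) := AddCommGroup.zmodModule (n := p) hn
  haveI : Module.Finite (ZMod p) (Additive V) := Module.Finite.of_finite
  let l : MulAut V →* LinearMap.GeneralLinearGroup (ZMod p) (Additive V) :=
    MonoidHom.toHomUnits
      { toFun := fun φ => (MonoidHom.toAdditive (φ : V ≃* V).toMonoidHom).toZModLinearMap p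
        map_one' := LinearMap.ext fun _ => rfl
        map_mul' := fun _ _ => LinearMap.ext fun _ => rfl }
  set ρ : X →* LinearMap.GeneralLinearGroup (ZMod p) (Additive V) := l.comp c with hρdef
  have hρ : ∀ (g : X) (v : V), (ρ g).val (Additive.ofMul v) = Additive.ofMul (c g v) := fun g v => rfl
  have hker : ρ a = 1 → False := fun h => hout (MulEquiv.ext fun v => by
    have h1 := hρ a v
    rw [h] at h1
    exact (Additive.ofMul.injective h1).symm)
  have htop : QP.Semi ((⊤ : Subgroup X).map ρ) := by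
    refine semi_of_minimal _ (exists_ne (0 : Additive V)) fun U hU => ?_
    rcases hmin (AddSubgroup.toSubgroup' U.toAddSubgroup) (fun g v hv => by
      have h1 := hU (ρ g) (mem_map_of_mem ρ (mem_top g)) (Additive.ofMul v) hv
      rwa [hρ] at h1) with h | h
    · refine Or.inl ((Submodule.eq_bot_iff U).mpr fun u hu => ?_)
      have h1 : Additive.toMul u ∈ AddSubgroup.toSubgroup' U.toAddSubgroup := hu
      rw [h, mem_bot] at h1
      exact Additive.toMul.injective h1
    · refine Or.inr (Submodule.eq_top_iff'.mpr fun u => ?_)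
      have h1 : Additive.toMul u ∈ AddSubgroup.toSubgroup' U.toAddSubgroup := h ▸ mem_top _
      exact h1
  have hnorm : ∀ g ∈ (⊤ : Subgroup X).map ρ, Cfsg.conjBy (G.map ρ) g = G.map ρ := by
    rintro _ ⟨g, -, rfl⟩
    refine CfsgLib.Local.map_conj_eq_of_mem_normalizer ?_
    refine le_normalizer_map ρ ⟨g, ?_, rfl⟩
    rw [normalizer_eq_top]; trivial
  have hsemi : QP.Semi (G.map ρ) := QP.semi_normal htop (map_mono le_top) hnorm
  set e : Module.End (ZMod p) (Additive V) := (ρ a).val - 1 with he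
  have hee : e * e = 0 := by
    refine LinearMap.ext fun v => ?_
    show (ρ a).val ((ρ a).val v - v) - ((ρ a).val v - v) = 0
    rw [sub_eq_zero]
    have h1 : (ρ a).val v - v = Additive.ofMul (c a (Additive.toMul v) * (Additive.toMul v)⁻¹) := by
      rw [← div_eq_mul_inv, ofMul_div, ← hρ, ofMul_toMul]
    rw [h1, hρ, hq]
  have hmem : QP.Mem (G.map ρ) e := by
    refine ⟨hee, fun h0 => hker (Units.ext (sub_eq_zero.mp h0)), fun c => ?_⟩
    have hn : ∀ n : ℕ, QP.InG (G.map ρ) (1 + n • e) := by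
      intro n
      induction n with
      | zero => simpa using QP.inG_one
      | succ n ih =>
        have := ih.mul (show QP.InG (G.map ρ) (1 + e) from ⟨ρ a, mem_map_of_mem ρ ha, by rw [he]; abel⟩)
        rwa [show (1 + n • e) * (1 + e) = 1 + (n + 1) • e by
          rw [mul_add, mul_one, add_mul, one_mul, smul_mul_assoc, hee, smul_zero, add_zero, succ_nsmul]; abel] at this
    have := hn c.val
    rwa [← Nat.cast_smul_eq_nsmul (ZMod p), ZMod.natCast_zmod_val] at this
  have hA : A.map ρ ≤ normalizer (G.map ρ : Set _) := by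
    rintro _ ⟨g, -, rfl⟩
    refine le_normalizer_map ρ ⟨g, ?_, rfl⟩
    rw [normalizer_eq_top]; trivial
  obtain ⟨φ, hφG, hφA, hφk⟩ := exists_sl2_centralized hp hsemi hA
    ((hcop.coprime_dvd_left (card_map_dvd _ ρ)).coprime_dvd_right (card_map_dvd _ ρ)) ⟨e, hmem⟩
  set K := φ.range.comap ρ ⊓ (G ⊓ centralizer (A : Set X)) with hK
  have hsurj : ∀ g, ∃ c ∈ K, ρ c = φ g := by
    intro g
    obtain ⟨k, hk, hkg⟩ := hφG g
    obtain ⟨c, hc, hkc⟩ := coprime_fixed_quotient (K := G) (N := ρ.ker ⊓ G)
      (by intro x _; rw [normalizer_eq_top]; trivial) hcop (solvable_or_of_coprime hcop) inf_le_right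
      (by intro x _; rw [normalizer_eq_top]; trivial) (by intro x _; rw [normalizer_eq_top]; trivial) hk
      (fun x hx => by
        refine ⟨?_, ?_⟩
        · show x * k * x⁻¹ * k⁻¹ ∈ ρ.ker
          rw [MonoidHom.mem_ker, map_mul, map_mul, map_mul, map_inv, map_inv, hkg, hφA _ (mem_map_of_mem ρ hx) g]
          group
        · exact G.mul_mem (Subgroup.Normal.conj_mem inferInstance k hk x) (G.inv_mem hk))
    have e1 : ρ c = φ g := by
      have := MonoidHom.mem_ker.mp hkc.1
      rwa [map_mul, map_inv, inv_mul_eq_one, hkg, eq_comm] at this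
    exact ⟨c, ⟨⟨g, e1.symm⟩, hc⟩, e1⟩
  let r : K →* φ.range := (ρ.comp K.subtype).codRestrict φ.range fun x => x.2.1
  let ψ : φ.range →* Matrix.SpecialLinearGroup (Fin 2) (ZMod p) ⧸ center (Matrix.SpecialLinearGroup (Fin 2) (ZMod p)) :=
    (QuotientGroup.lift φ.ker (QuotientGroup.mk' _) fun x hx => by
      rw [MonoidHom.mem_ker, QuotientGroup.mk'_apply, QuotientGroup.eq_one_iff]; exact hφk hx).comp
      (QuotientGroup.quotientKerEquivRange φ).symm.toMonoidHom
  refine ⟨K, ψ.comp r, inf_le_right, ?_⟩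
  intro q
  obtain ⟨g, rfl⟩ := QuotientGroup.mk_surjective q
  obtain ⟨c, hc, hcg⟩ := hsurj g
  refine ⟨⟨c, hc⟩, ?_⟩
  show ψ ⟨ρ c, _⟩ = _
  have e2 : (QuotientGroup.quotientKerEquivRange φ).symm ⟨φ g, ⟨g, rfl⟩⟩ = (g : _ ⧸ φ.ker) :=
    (MulEquiv.symm_apply_eq _).mpr rfl
  simp only [ψ, hcg, MonoidHom.coe_comp, Function.comp_apply, MulEquiv.coe_toMonoidHom, e2]
  rfl


/-- The irreducible case. -/
theorem exists_sl2_of_irreducible (hp : 5 ≤ p) (G A : Subgroup X) [G.Normal]
    (hcop : (Nat.card A).Coprime (Nat.card G)) (W : Subgroup X) [W.Normal] (hW0 : W ≠ ⊥)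
    (hWc : ∀ x ∈ W, ∀ y ∈ W, x * y = y * x) (hWp : ∀ x ∈ W, x ^ p = 1)
    (hmin : ∀ K : Subgroup X, K.Normal → K ≤ W → K = ⊥ ∨ K = W) {a : X} (ha : a ∈ G)
    (hq : ∀ v ∈ W, a * (a * v * a⁻¹ * v⁻¹) * a⁻¹ = a * v * a⁻¹ * v⁻¹) (hout : a ∉ centralizer (W : Set X)) :
    ∃ (K : Subgroup X) (f : K →* Matrix.SpecialLinearGroup (Fin 2) (ZMod p) ⧸
        center (Matrix.SpecialLinearGroup (Fin 2) (ZMod p))),
      K ≤ G ⊓ centralizer (A : Set X) ∧ Function.Surjective f := by
  haveI : Nontrivial W := W.nontrivial_iff_ne_bot.mpr hW0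
  refine exists_sl2_of_action hp G A hcop W (fun x y => Subtype.ext (hWc x x.2 y y.2))
    (fun x => Subtype.ext (by rw [SubmonoidClass.coe_pow]; exact hWp x x.2)) (MulAut.conjNormal (H := W)) ?_ ha ?_ ?_
  · intro K hK
    have hn : (K.map W.subtype).Normal := by
      refine ⟨fun y hy g => ?_⟩
      obtain ⟨w, hw, rfl⟩ := hy
      exact ⟨_, hK g w hw, MulAut.conjNormal_apply g w⟩
    rcases hmin _ hn (map_subtype_le K) with h | h
    · exact Or.inl ((map_eq_bot_iff_of_injective K W.subtype_injective).mp h)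
    · refine Or.inr (map_injective W.subtype_injective ?_)
      rw [h, ← MonoidHom.range_eq_map, range_subtype]
  · intro v
    refine Subtype.ext ?_
    simp only [MulAut.conjNormal_apply, Subgroup.coe_mul, Subgroup.coe_inv]
    exact hq v v.2
  · intro h
    refine hout fun v hv => ?_
    have h1 := congrArg (fun f : MulAut W => (f ⟨v, hv⟩ : X)) h
    simp only [MulAut.conjNormal_apply, MulAut.one_apply] at h1
    exact (mul_inv_eq_iff_eq_mul.mp h1).symm

/-- A `p'`-element stabilising `1 ≤ W ≤ V` centralises `V`. -/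
theorem mem_centralizer_of_stab {W V : Subgroup X} (hW : IsPGroup p W) {g : X} (hg : (orderOf g).Coprime p)
    (h1 : g ∈ centralizer (W : Set X)) (h2 : ∀ v ∈ V, g * v * g⁻¹ * v⁻¹ ∈ W) : g ∈ centralizer (V : Set X) := by
  intro v hv
  set w := g * v * g⁻¹ * v⁻¹ with hw
  have hwW : w ∈ W := h2 v hv
  have hn : ∀ n : ℕ, g ^ n * v * (g ^ n)⁻¹ = w ^ n * v := by
    intro n
    induction n with
    | zero => simp
    | succ n ih =>
      have hc : g * w ^ n = w ^ n * g := (h1 _ (pow_mem hwW n)).symm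
      calc g ^ (n + 1) * v * (g ^ (n + 1))⁻¹ = g * (g ^ n * v * (g ^ n)⁻¹) * g⁻¹ := by rw [pow_succ']; group
        _ = g * w ^ n * (v * g⁻¹) := by rw [ih]; group
        _ = w ^ n * (w * v) := by rw [hc, hw]; group
        _ = w ^ (n + 1) * v := by rw [pow_succ]; group
  have h3 := hn (orderOf g)
  rw [pow_orderOf_eq_one, one_mul, inv_one, mul_one, right_eq_mul] at h3
  obtain ⟨k, hk⟩ := hW ⟨w, hwW⟩
  have hw1 : w = 1 := orderOf_eq_one_iff.mp (Nat.eq_one_of_dvd_coprimes (hg.pow_right k)
    (orderOf_dvd_of_pow_eq_one h3) (orderOf_dvd_of_pow_eq_one (congrArg Subtype.val hk)))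
  rw [hw, mul_inv_eq_one, mul_inv_eq_iff_eq_mul] at hw1
  exact hw1.symm

/-- The group version. -/
theorem exists_sl2_fixed (hp : 5 ≤ p) : ∀ (n : ℕ) {X : Type u} [Group X] [Finite X] (G A V : Subgroup X)
    [G.Normal] [V.Normal], Nat.card V = n → IsPGroup p V → (Nat.card A).Coprime (Nat.card G) → ∀ {a : X}, a ∈ G →
    (∀ v ∈ V, a * (a * v * a⁻¹ * v⁻¹) * a⁻¹ = a * v * a⁻¹ * v⁻¹) →
    (∀ N : Subgroup X, N.Normal → N ≤ G → (∀ g ∈ N, (orderOf g).Coprime p → g ∈ centralizer (V : Set X)) → a ∉ N) →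
    ∃ (K : Subgroup X) (f : K →* Matrix.SpecialLinearGroup (Fin 2) (ZMod p) ⧸
        center (Matrix.SpecialLinearGroup (Fin 2) (ZMod p))),
      K ≤ G ⊓ centralizer (A : Set X) ∧ Function.Surjective f := by
  intro n
  induction n using Nat.strong_induction_on with
  | _ n ih =>
    intro X _ _ G A V hGn hVn hVn' hV hcop a ha hq hbad
    by_cases hV0 : V = ⊥
    · subst hV0
      exact absurd ha (hbad G hGn le_rfl fun g _ _ v hv => by rw [mem_bot.mp hv, one_mul, mul_one])
    obtain ⟨W, hWn, hWV, hW0, hmin⟩ := CfsgLib.exists_minimal_normal hV0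
    have hWp' : IsPGroup p W := hV.to_le hWV
    have hWc : ∀ x ∈ W, ∀ y ∈ W, x * y = y * x := by
      rcases hmin _ (inferInstance : (⁅W, W⁆ : Subgroup X).Normal) (commutator_le_self W) with h | h
      · exact fun x hx y hy => commutatorElement_eq_one_iff_mul_comm.mp
          (mem_bot.mp (h ▸ commutator_mem_commutator hx hy))
      · exfalso
        haveI := hWp'.isNilpotent
        haveI : Nontrivial W := W.nontrivial_iff_ne_bot.mpr hW0
        refine (Group.IsSolvable.commutator_lt_top_of_nontrivial W).ne (map_injective W.subtype_injective ?_)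
        rw [map_subtype_commutator, h, ← MonoidHom.range_eq_map, range_subtype]
    have hWp : ∀ x ∈ W, x ^ p = 1 := by
      set f : W →* W := MonoidHom.mk' (fun x => x ^ p) fun x y =>
        (show Commute x y from Subtype.ext (hWc _ x.2 _ y.2)).mul_pow p with hf
      have hKn : (f.range.map W.subtype).Normal := by
        refine ⟨fun y hy g => ?_⟩
        obtain ⟨_, ⟨w, rfl⟩, rfl⟩ := hy
        refine ⟨f ⟨g * w * g⁻¹, hWn.conj_mem _ w.2 g⟩, ⟨_, rfl⟩, ?_⟩
        show (((⟨g * w * g⁻¹, hWn.conj_mem _ w.2 g⟩ : W) ^ p : W) : X) = g * ((w ^ p : W) : X) * g⁻¹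
        rw [SubmonoidClass.coe_pow, SubmonoidClass.coe_pow, conj_pow]
      rcases hmin _ hKn (by rintro _ ⟨w, -, rfl⟩; exact w.2) with h | h
      · intro x hx
        have : (f ⟨x, hx⟩ : X) ∈ f.range.map W.subtype := ⟨_, ⟨_, rfl⟩, rfl⟩
        rw [h, mem_bot] at this
        simpa [hf] using this
      · exfalso
        have hsurj : Function.Surjective f := fun w => by
          obtain ⟨w', hw', e⟩ : (w : X) ∈ f.range.map W.subtype := h.symm ▸ w.2
          obtain rfl : w' = w := Subtype.ext e
          exact hw'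
        obtain ⟨e, he⟩ := IsPGroup.iff_card.mp hWp'
        haveI : Nontrivial W := W.nontrivial_iff_ne_bot.mpr hW0
        have he0 : e ≠ 0 := fun e0 => by
          rw [e0, pow_zero] at he
          exact (Finite.one_lt_card (α := W)).ne' he
        obtain ⟨x, hx⟩ := exists_prime_orderOf_dvd_card' (G := W) p (he ▸ dvd_pow_self p he0)
        have h1 : f x = f 1 := by
          show x ^ p = 1 ^ p
          rw [one_pow, ← hx, pow_orderOf_eq_one]
        rw [(Finite.injective_iff_surjective.mpr hsurj) h1, orderOf_one] at hx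
        exact (Fact.out : p.Prime).ne_one hx.symm
    by_cases haW : a ∈ centralizer (W : Set X)
    swap
    · exact exists_sl2_of_irreducible hp G A hcop W hW0 hWc hWp hmin ha (fun v hv => hq v (hWV hv)) haW
    set π := QuotientGroup.mk' W with hπ
    have hπs : Function.Surjective π := QuotientGroup.mk'_surjective W
    haveI : (G.map π).Normal := hGn.map π hπs
    haveI : (V.map π).Normal := hVn.map π hπs
    have hlt : Nat.card (V.map π) < n := by
      rw [← hVn']
      have h1 : Nat.card (V.map π) = W.relIndex V := by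
        rw [← relIndex_ker, QuotientGroup.ker_mk']
      rw [h1]
      have h2 := Subgroup.relIndex_mul_relIndex ⊥ W V bot_le hWV
      rw [relIndex_bot_left, relIndex_bot_left] at h2
      haveI : Nontrivial W := W.nontrivial_iff_ne_bot.mpr hW0
      have h3 : 2 ≤ Nat.card W := Finite.one_lt_card
      have h4 : 0 < Nat.card V := Nat.card_pos
      nlinarith
    obtain ⟨K, f, hK, hf⟩ := ih _ hlt (G.map π) (A.map π) (V.map π) rfl (hV.map π)
      ((hcop.coprime_dvd_left (card_map_dvd _ π)).coprime_dvd_right (card_map_dvd _ π))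
      (a := π a) (mem_map_of_mem π ha) (by
        rintro _ ⟨v, hv, rfl⟩
        have := congrArg π (hq v hv)
        simpa only [map_mul, map_inv] using this)
      (fun N hNn hNG hNp hN => hbad (N.comap π ⊓ G ⊓ centralizer (W : Set X))
        (by haveI := hNn.comap π; infer_instance) (inf_le_left.trans inf_le_right)
        (fun g hg hgp => mem_centralizer_of_stab hWp' hgp hg.2 fun v hv => by
          have h1 := hNp _ hg.1.1 (hgp.coprime_dvd_left (orderOf_map_dvd π g)) _ (mem_map_of_mem π hv)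
          rw [← QuotientGroup.eq_one_iff (N := W)]
          show π (g * v * g⁻¹ * v⁻¹) = 1
          rw [map_mul, map_mul, map_mul, map_inv, map_inv, ← h1]
          group)
        ⟨⟨hN, ha⟩, haW⟩)
    set L := K.comap π ⊓ (G ⊓ centralizer (A : Set X)) with hL
    refine ⟨L, f.comp ((π.comp L.subtype).codRestrict K fun x => x.2.1), inf_le_right, hf.comp fun k => ?_⟩
    obtain ⟨⟨g, hg, hgk⟩, hkA⟩ := hK k.2
    obtain ⟨c, hc, hgc⟩ := coprime_fixed_quotient (K := G) (N := W ⊓ G)
      (by intro x _; rw [normalizer_eq_top]; trivial) hcop (solvable_or_of_coprime hcop) inf_le_right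
      (by intro x _; rw [normalizer_eq_top]; trivial) (by intro x _; rw [normalizer_eq_top]; trivial) hg
      (fun x hx => by
        refine ⟨?_, G.mul_mem (Subgroup.Normal.conj_mem inferInstance g hg x) (G.inv_mem hg)⟩
        show x * g * x⁻¹ * g⁻¹ ∈ W
        rw [← QuotientGroup.eq_one_iff (N := W)]
        show π (x * g * x⁻¹ * g⁻¹) = 1
        rw [map_mul, map_mul, map_mul, map_inv, map_inv, hgk, hkA _ (mem_map_of_mem π hx)]
        group)
    have e1 : π c = k := by
      have h2 : π (g⁻¹ * c) = 1 := (QuotientGroup.eq_one_iff _).mpr hgc.1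
      rwa [map_mul, map_inv, inv_mul_eq_one, hgk, eq_comm] at h2
    exact ⟨⟨c, (show π c ∈ K by rw [e1]; exact k.2), hc⟩, Subtype.ext e1⟩

/-- A group equivalence on the projective special linear groups of the prime fields. -/
theorem involves_psl {H : Type u} [Group H] (K : Subgroup H)
    (f : K →* Matrix.SpecialLinearGroup (Fin 2) (ZMod p) ⧸ center (Matrix.SpecialLinearGroup (Fin 2) (ZMod p)))
    (hf : Function.Surjective f) {F : Type*} [Field F] [Fintype F] (hF : Fintype.card F = p) :
    Cfsg.Involves (Matrix.ProjectiveSpecialLinearGroup (Fin 2) F) H := by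
  haveI : CharP F p := charP_of_card_eq_prime hF
  let e : ZMod p ≃+* F := ZMod.ringEquiv F hF
  let ψ := Matrix.SpecialLinearGroup.map (n := Fin 2) e.toRingHom
  have hψ : Function.Bijective ψ := by
    refine ⟨fun g g' h => Matrix.SpecialLinearGroup.ext _ _ fun i j => e.injective ?_, fun g =>
      ⟨Matrix.SpecialLinearGroup.map (n := Fin 2) e.symm.toRingHom g,
        Matrix.SpecialLinearGroup.ext _ _ fun i j => e.apply_symm_apply _⟩⟩
    exact congrArg (fun m : Matrix.SpecialLinearGroup (Fin 2) F => m.1 i j) h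
  let E := MulEquiv.ofBijective ψ hψ
  have hc : (center (Matrix.SpecialLinearGroup (Fin 2) (ZMod p))).map E.toMonoidHom =
      center (Matrix.SpecialLinearGroup (Fin 2) F) := by
    ext x
    rw [mem_map, mem_center_iff]
    constructor
    · rintro ⟨y, hy, rfl⟩ g
      obtain ⟨g, rfl⟩ := E.surjective g
      exact (map_mul E g y).symm.trans ((congrArg E (mem_center_iff.mp hy g)).trans (map_mul E y g))
    · intro h
      refine ⟨E.symm x, mem_center_iff.mpr fun g => E.injective ?_, E.apply_symm_apply x⟩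
      rw [map_mul, map_mul, E.apply_symm_apply]
      exact h _
  let e' := QuotientGroup.congr _ _ E hc
  exact CfsgLib.QdSection.involves_of_surjective K (e'.toMonoidHom.comp f) (e'.surjective.comp hf)

end CfsgLib.QuadFixed
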