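import Mathlib
import Cfsg.Agent.Lib.Coprime
import Cfsg.Agent.Lib.OddOrder.FeitThompson

/-!
Coprime actions fix a point of every invariant orbit.
-/

set_option autoImplicit false

namespace CfsgLib.QuadFixed

open Subgroup

universe u v
variable {Γ : Type u} [Group Γ] {X : Type v} [MulAction Γ X]

/-- One of two finite groups of coprime orders is solvable. -/
theorem solvable_or_of_coprime {A : Type u} [Group A] [Finite A] {B : Type u} [Group B] [Finite B]
    (h : (Nat.card A).Coprime (Nat.card B)) : Group.IsSolvable A ∨ Group.IsSolvable B := by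
  rcases Nat.even_or_odd (Nat.card A) with hA | hA
  · refine Or.inr (CfsgLib.OddOrder.feitThompson (Nat.not_even_iff_odd.mp fun hB => ?_))
    exact absurd (Nat.eq_one_of_dvd_coprimes h hA.two_dvd hB.two_dvd) (by norm_num)
  · exact Or.inl (CfsgLib.OddOrder.feitThompson hA)

/-- If `A` acts coprimely on `H` and maps `x₀` into its `H`-orbit, it fixes a point of this orbit. -/
theorem exists_fixed [Finite Γ] {H A : Subgroup Γ} (hAH : A ≤ normalizer (H : Set Γ))
    (hcop : (Nat.card A).Coprime (Nat.card H)) (x₀ : X) (horb : ∀ a ∈ A, ∃ h ∈ H, a • x₀ = h • x₀) :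
    ∃ h ∈ H, ∀ a ∈ A, a • (h • x₀) = h • x₀ := by
  set U := H ⊔ A with hU
  set N := H.subgroupOf U with hN
  haveI hNn : N.Normal :=
    (normal_subgroupOf_iff_le_normalizer le_sup_left).mpr (sup_le le_normalizer hAH)
  set A' := A.subgroupOf U with hA'
  have hcN : Nat.card N = Nat.card H := Nat.card_congr (subgroupOfEquivOfLe (le_sup_left : H ≤ U)).toEquiv
  have hcA : Nat.card A' = Nat.card A := Nat.card_congr (subgroupOfEquivOfLe (le_sup_right : A ≤ U)).toEquiv
  have hcompl : IsComplement' N A' := by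
    refine isComplement'_of_disjoint_and_mul_eq_univ ?_ ?_
    · rw [Subgroup.disjoint_def]
      intro x hx hx'
      exact Subtype.ext (disjoint_def.mp (disjoint_of_coprime_natCard hcop) hx' hx)
    · refine Set.eq_univ_of_forall fun x => ?_
      obtain ⟨w, hw, a, ha, hwa⟩ := mem_sup_of_le_normalizer hAH x.2
      exact Set.mem_mul.mpr ⟨⟨w, mem_sup_left hw⟩, hw, ⟨a, mem_sup_right ha⟩, ha, Subtype.ext hwa⟩
  have hidx : N.index = Nat.card A := by rw [hcompl.symm.index_eq_card, hcA]
  have hcop' : (Nat.card N).Coprime N.index := by rw [hcN, hidx]; exact hcop.symm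
  set T := (MulAction.stabilizer Γ x₀).comap U.subtype with hT
  set π := (QuotientGroup.mk' N).comp T.subtype with hπ
  have hπs : Function.Surjective π := by
    intro q
    obtain ⟨g, rfl⟩ := QuotientGroup.mk'_surjective N q
    obtain ⟨w, hw, a, ha, hwa⟩ := mem_sup_of_le_normalizer hAH g.2
    obtain ⟨h, hh, he⟩ := horb a ha
    have hm : h⁻¹ * a ∈ U := mul_mem (inv_mem (mem_sup_left hh)) (mem_sup_right ha)
    refine ⟨⟨⟨h⁻¹ * a, hm⟩, ?_⟩, ?_⟩
    · show (h⁻¹ * a) • x₀ = x₀
      rw [mul_smul, he, inv_smul_smul]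
    · show QuotientGroup.mk' N (⟨h⁻¹ * a, hm⟩ : U) = QuotientGroup.mk' N g
      rw [QuotientGroup.mk'_eq_mk']
      refine ⟨⟨a⁻¹ * h * w * a, mul_mem (mul_mem (mul_mem (inv_mem (mem_sup_right ha)) (mem_sup_left hh))
        (mem_sup_left hw)) (mem_sup_right ha)⟩, ?_, Subtype.ext ?_⟩
      · show a⁻¹ * h * w * a ∈ H
        have := (mem_normalizer_iff.mp (hAH (inv_mem ha)) _).mp (mul_mem hh hw)
        simpa [mul_assoc] using this
      · simp only [Subgroup.coe_mul, ← hwa]; group
  have hkidx : π.ker.index = Nat.card A := by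
    rw [Subgroup.index_ker, MonoidHom.range_eq_top.mpr hπs, Subgroup.card_top, ← Subgroup.index_eq_card, hidx]
  have hkcard : Nat.card π.ker ∣ Nat.card N := by
    refine dvd_trans ?_ (card_dvd_of_le (H := π.ker.map T.subtype) (K := N) ?_)
    · rw [card_map_of_injective T.subtype_injective]
    · rintro _ ⟨t, ht, rfl⟩
      exact (QuotientGroup.eq_one_iff _).mp ht
  have hkcop : (Nat.card π.ker).Coprime π.ker.index := by
    rw [hkidx, ← hidx]; exact hcop'.coprime_dvd_left hkcard
  obtain ⟨K, hK⟩ := exists_right_complement'_of_coprime hkcop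
  have hK' : IsComplement' N (K.map T.subtype) := by
    refine isComplement'_of_card hcop' ?_
    rw [card_map_of_injective T.subtype_injective, ← hK.symm.index_eq_card, hkidx, hidx]
  have hsolv : Group.IsSolvable N ∨ Group.IsSolvable (U ⧸ N) := by
    rcases solvable_or_of_coprime (A := ↥N) (B := U ⧸ N) (by rwa [← Subgroup.index_eq_card]) with h | h
    exacts [Or.inl h, Or.inr h]
  obtain ⟨n, hn, he⟩ := complements_conj_mem hcop' hsolv hcompl hK'
  refine ⟨(n : Γ)⁻¹, inv_mem hn, fun a ha => ?_⟩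
  have hm : n * ⟨a, mem_sup_right ha⟩ * n⁻¹ ∈ K.map T.subtype := by
    rw [← he, mem_conj_smul_iff]
    simpa [mul_assoc] using (show (⟨a, mem_sup_right ha⟩ : U) ∈ A' from ha)
  obtain ⟨t, -, ht⟩ := hm
  have h1 : ((n : Γ) * a * (n : Γ)⁻¹) • x₀ = x₀ := by
    have h2 : (T.subtype t : U) ∈ T := t.2
    rw [ht] at h2
    exact h2
  rw [mul_smul, mul_smul, smul_eq_iff_eq_inv_smul] at h1
  exact h1

end CfsgLib.QuadFixed
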