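import Mathlib

/-!
Spaces of invertible elements closed under `a b a` in a finite algebra: square roots are unique up to sign,
so there are at most two classes for the relation generated by `b ~ a b a`.
-/

set_option autoImplicit false

namespace CfsgLib.QuadFixed

open Polynomial

variable {p : ℕ} [Fact p.Prime] {R : Type*} [Ring R] [Algebra (ZMod p) R]

/-- A space containing `1`, all of whose nonzero members are units, closed under `a b a`. -/
structure IsUnitJordan (J : Submodule (ZMod p) R) : Prop where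
  one : (1 : R) ∈ J
  unit : ∀ a ∈ J, a ≠ 0 → IsUnit a
  sand : ∀ a ∈ J, ∀ b ∈ J, a * b * a ∈ J

variable {J : Submodule (ZMod p) R}

theorem IsUnitJordan.sq (h : IsUnitJordan J) {a : R} (ha : a ∈ J) : a * a ∈ J := by
  simpa using h.sand a ha 1 h.one

theorem two_ne_zero_zmod (hp : p ≠ 2) : (2 : ZMod p) ≠ 0 := by
  intro h
  have h' : ((2 : ℕ) : ZMod p) = 0 := by simpa using h
  rw [ZMod.natCast_eq_zero_iff] at h'
  exact hp ((Nat.prime_dvd_prime_iff_eq Fact.out Nat.prime_two).1 h')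

theorem IsUnitJordan.mul_of_commute (h : IsUnitJordan J) (hp : p ≠ 2) {a b : R} (ha : a ∈ J) (hb : b ∈ J)
    (hc : Commute a b) : a * b ∈ J := by
  have h1 : (a + b) * (a + b) - a * a - b * b = (2 : ZMod p) • (a * b) := by
    rw [two_smul, add_mul, mul_add, mul_add, hc.symm.eq]; abel
  have h2 : (2 : ZMod p) • (a * b) ∈ J := h1 ▸ sub_mem (sub_mem (h.sq (add_mem ha hb)) (h.sq ha)) (h.sq hb)
  have h3 := J.smul_mem (2 : ZMod p)⁻¹ h2
  rwa [smul_smul, inv_mul_cancel₀ (two_ne_zero_zmod hp), one_smul] at h3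

theorem IsUnitJordan.pow_mem' (h : IsUnitJordan J) (hp : p ≠ 2) {a : R} (ha : a ∈ J) : ∀ n : ℕ, a ^ n ∈ J
  | 0 => by simpa using h.one
  | n + 1 => by
    rw [pow_succ]
    exact h.mul_of_commute hp (h.pow_mem' hp ha n) ha ((Commute.refl a).pow_left n)

theorem IsUnitJordan.exists_inv [Finite R] (h : IsUnitJordan J) (hp : p ≠ 2) {a : R} (ha : a ∈ J) (ha0 : a ≠ 0) :
    ∃ b ∈ J, a * b = 1 ∧ b * a = 1 := by
  obtain ⟨u, rfl⟩ := h.unit a ha ha0
  refine ⟨(u : R) ^ (orderOf u - 1), h.pow_mem' hp ha _, ?_, ?_⟩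
  · rw [← pow_succ', Nat.sub_add_cancel (orderOf_pos u), ← Units.val_pow_eq_pow_val, pow_orderOf_eq_one, Units.val_one]
  · rw [← pow_succ, Nat.sub_add_cancel (orderOf_pos u), ← Units.val_pow_eq_pow_val, pow_orderOf_eq_one, Units.val_one]

theorem eq_zero_or_of_mul (h : IsUnitJordan J) {a b : R} (ha : a ∈ J) (hab : a * b = 0) : a = 0 ∨ b = 0 := by
  refine or_iff_not_imp_left.mpr fun ha0 => ?_
  exact (h.unit a ha ha0).mul_right_eq_zero.mp hab

/-- Square roots are unique up to sign. -/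
theorem IsUnitJordan.sq_inj [Finite R] (h : IsUnitJordan J) (hp : p ≠ 2) {X Z : R} (hX : X ∈ J) (hZ : Z ∈ J)
    (he : X * X = Z * Z) : Z = X ∨ Z = -X := by
  classical
  suffices hXZ : Commute Z X by
    have h1 : (Z - X) * (Z + X) = 0 := by
      rw [sub_mul, mul_add, mul_add, hXZ.eq, he]; abel
    rcases eq_zero_or_of_mul h (sub_mem hZ hX) h1 with e | e
    · exact Or.inl (sub_eq_zero.mp e)
    · exact Or.inr (eq_neg_of_add_eq_zero_left e)
  by_cases hX0 : X = 0
  · rw [hX0]; exact Commute.zero_right Z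
  set v := X * X with hv
  set w := X * Z + Z * X with hw
  have hwJ : w ∈ J := by
    have : (X + Z) * (X + Z) - v - v = w := by
      rw [hw, add_mul, mul_add, mul_add, ← he]; abel
    exact this ▸ sub_mem (sub_mem (h.sq (add_mem hX hZ)) (h.sq hX)) (h.sq hX)
  have hvX : Commute v X := (Commute.refl X).mul_left (Commute.refl X)
  have hvZ : Commute v Z := by rw [he]; exact (Commute.refl Z).mul_left (Commute.refl Z)
  have hwX : Commute w X := by
    show w * X = X * w
    rw [hw, add_mul, mul_add, mul_assoc Z X X, ← hv, ← mul_assoc X X Z, ← hv, hvZ.eq, mul_assoc X Z X]; abel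
  have hwZ : Commute w Z := by
    show w * Z = Z * w
    rw [hw, add_mul, mul_add, mul_assoc X Z Z, ← he, ← mul_assoc Z Z X, ← he, hvX.eq, mul_assoc Z X Z]; abel
  set K := Algebra.adjoin (ZMod p) ({v, w} : Set R) with hK
  have hcommK : ∀ {a : R}, Commute a v → Commute a w → ∀ {b : R}, b ∈ K → Commute a b := by
    intro a hav haw b hb
    have : K ≤ Subalgebra.centralizer (ZMod p) ({a} : Set R) := Algebra.adjoin_le (by
      rintro x (rfl | rfl) <;> intro y hy <;> rw [Set.mem_singleton_iff.mp hy]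
      · exact hav.eq
      · exact haw.eq)
    exact this hb a rfl
  have key : ∀ {b : R}, b ∈ K → b ∈ J ∧ Commute b X ∧ Commute b Z := by
    intro b hb
    induction hb using Algebra.adjoin_induction with
    | mem x hx =>
      rcases hx with rfl | rfl
      · exact ⟨h.sq hX, hvX, hvZ⟩
      · exact ⟨hwJ, hwX, hwZ⟩
    | algebraMap r =>
      exact ⟨by rw [Algebra.algebraMap_eq_smul_one]; exact J.smul_mem r h.one,
        Algebra.commute_algebraMap_left r X, Algebra.commute_algebraMap_left r Z⟩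
    | add x y _ _ hx hy => exact ⟨add_mem hx.1 hy.1, hx.2.1.add_left hy.2.1, hx.2.2.add_left hy.2.2⟩
    | mul x y _ hy' hx hy =>
      refine ⟨h.mul_of_commute hp hx.1 hy.1 (hcommK ?_ ?_ hy'), hx.2.1.mul_left hy.2.1, hx.2.2.mul_left hy.2.2⟩
      · exact hx.2.1.mul_right hx.2.1
      · exact (hx.2.1.mul_right hx.2.2).add_right (hx.2.2.mul_right hx.2.1)
  letI : CommRing K := { (inferInstance : Ring K) with
    mul_comm := fun a b => Subtype.ext (by
      obtain ⟨-, hbX, hbZ⟩ := key b.2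
      exact (hcommK (a := (b : R)) (hbX.mul_right hbX)
        ((hbX.mul_right hbZ).add_right (hbZ.mul_right hbX)) a.2).symm.eq) }
  haveI : Nontrivial R := ⟨⟨X, 0, hX0⟩⟩
  haveI : NoZeroDivisors K := ⟨fun {a b} hab =>
    (eq_zero_or_of_mul h (key a.2).1 (show (a : R) * b = 0 from congrArg Subtype.val hab)).imp Subtype.ext Subtype.ext⟩
  haveI : IsDomain K := NoZeroDivisors.to_isDomain K
  haveI : Fintype K := Fintype.ofFinite K
  set v' : K := ⟨v, Algebra.subset_adjoin (Or.inl rfl)⟩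
  set w' : K := ⟨w, Algebra.subset_adjoin (Or.inr rfl)⟩
  have hv0 : v' ≠ 0 := fun e => by
    have e' : X * X = 0 := congrArg Subtype.val e
    exact hX0 ((eq_zero_or_of_mul h hX e').elim id id)
  have hcard : Fintype.card K % 2 = 1 := by
    rw [← Nat.card_eq_fintype_card, Module.natCard_eq_pow_finrank (K := ZMod p) (V := K), Nat.card_zmod,
      Nat.pow_mod, (Fact.out : p.Prime).eq_two_or_odd.resolve_left hp, one_pow, Nat.one_mod]
  obtain ⟨c, a, hca⟩ := FiniteField.exists_root_sum_quadratic (f := (Polynomial.X : K[X]) ^ 2)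
    (g := Polynomial.C (-v') * Polynomial.X ^ 2 + Polynomial.C (-w') * Polynomial.X + Polynomial.C (-v'))
    (degree_X_pow 2) (degree_quadratic (neg_ne_zero.mpr hv0)) hcard
  simp only [eval_add, eval_mul, eval_C, eval_pow, eval_X] at hca
  have hca' : (c : R) * c = v * (a * a) + w * a + v := by
    have : c * c = v' * (a * a) + w' * a + v' := by linear_combination hca
    simpa [v', w'] using congrArg Subtype.val this
  obtain ⟨haJ, haX, haZ⟩ := key a.2
  obtain ⟨hcJ, hcX, hcZ⟩ := key c.2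
  set T := (a : R) * X + Z with hT
  have hTJ : T ∈ J := add_mem (h.mul_of_commute hp haJ hX haX) hZ
  have hva : Commute v (a : R) := (haX.mul_right haX).symm
  have hwa : Commute w (a : R) := ((haX.mul_right haZ).add_right (haZ.mul_right haX)).symm
  have hT2 : T * T = (c : R) * c := by
    rw [hca', hva.left_comm, hwa.eq, hT, add_mul, mul_add, mul_add, ← he]
    have e1 : (a : R) * X * (↑a * X) = ↑a * (v * ↑a) :=
      calc (a : R) * X * (↑a * X) = ↑a * (X * (↑a * X)) := mul_assoc _ _ _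
        _ = ↑a * (X * (X * ↑a)) := by rw [haX.eq]
        _ = ↑a * (v * ↑a) := by rw [hv, mul_assoc X X]
    have e2 : (a : R) * X * Z + Z * (↑a * X) = ↑a * w := by
      rw [← mul_assoc Z, ← haZ.eq, hw, mul_add, mul_assoc, mul_assoc]
    rw [e1, ← e2]; abel
  have hcK : ∀ {T' : R}, T' = (c : R) ∨ T' = -(c : R) → Commute T' X := by
    rintro T' (rfl | rfl)
    · exact hcX
    · exact hcX.neg_left
  have hcT : Commute T (c : R) := (((hcommK (a := (c:R)) (hcX.mul_right hcX)
    ((hcX.mul_right hcZ).add_right (hcZ.mul_right hcX)) a.2).mul_right hcX).add_right hcZ).symm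
  have h1 : (T - c) * (T + c) = 0 := by rw [sub_mul, mul_add T T, mul_add (c : R), hcT.eq, hT2]; abel
  have hTX : Commute T X := hcK ((eq_zero_or_of_mul h (sub_mem hTJ hcJ) h1).imp sub_eq_zero.mp eq_neg_of_add_eq_zero_left)
  have : Z = T - (a : R) * X := by rw [hT, add_sub_cancel_left]
  rw [this]
  exact hTX.sub_left (haX.mul_left (Commute.refl X))

/-- The translate of the space by one of its members. -/
theorem IsUnitJordan.translate [Finite R] (h : IsUnitJordan J) (hp : p ≠ 2) {b : R} (hb : b ∈ J) (hb0 : b ≠ 0) :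
    IsUnitJordan (J.map (LinearMap.mulRight (ZMod p) b)) := by
  obtain ⟨c, hcJ, hbc, hcb⟩ := h.exists_inv hp hb hb0
  refine ⟨⟨c, hcJ, hcb⟩, ?_, ?_⟩
  · rintro _ ⟨a, ha, rfl⟩ h0
    exact (h.unit a ha fun e => h0 (by simp [e])).mul (h.unit b hb hb0)
  · rintro _ ⟨a, ha, rfl⟩ _ ⟨d, hd, rfl⟩
    exact ⟨a * (b * d * b) * a, h.sand a ha _ (h.sand b hb d hd), by simp [LinearMap.mulRight_apply, mul_assoc]⟩

/-- There are at most two classes for a relation containing `b ~ a b a`. -/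
theorem IsUnitJordan.two_classes [Finite R] [Nontrivial R] (h : IsUnitJordan J) (hp : p ≠ 2) (rel : R → R → Prop)
    (hsymm : ∀ a b, rel a b → rel b a) (htrans : ∀ a b c, rel a b → rel b c → rel a c)
    (hrel : ∀ a ∈ J, a ≠ 0 → ∀ b ∈ J, b ≠ 0 → rel b (a * b * a))
    {z₁ z₂ z₃ : R} (h₁ : z₁ ∈ J) (h₁0 : z₁ ≠ 0) (h₂ : z₂ ∈ J) (h₂0 : z₂ ≠ 0) (h₃ : z₃ ∈ J) (h₃0 : z₃ ≠ 0) :
    rel z₁ z₂ ∨ rel z₁ z₃ ∨ rel z₂ z₃ := by
  classical
  haveI : Fintype R := Fintype.ofFinite R
  set A : Finset R := Finset.univ.filter fun a => a ∈ J ∧ a ≠ 0 with hA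
  have hmemA : ∀ {a}, a ∈ A ↔ a ∈ J ∧ a ≠ 0 := fun {a} => by simp [hA]
  have hApos : 0 < A.card := Finset.card_pos.mpr ⟨z₁, hmemA.mpr ⟨h₁, h₁0⟩⟩
  have hsub : ∀ {z}, z ∈ J → z ≠ 0 → A.image (fun a => a * z * a) ⊆ A ∧
      A.card ≤ 2 * (A.image (fun a => a * z * a)).card := by
    intro z hz hz0
    refine ⟨fun y hy => ?_, Finset.card_le_mul_card_image _ 2 fun y hy => ?_⟩
    · obtain ⟨a, ha, rfl⟩ := Finset.mem_image.mp hy
      obtain ⟨ha, ha0⟩ := hmemA.mp ha
      exact hmemA.mpr ⟨h.sand a ha z hz,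
        (((h.unit a ha ha0).mul (h.unit z hz hz0)).mul (h.unit a ha ha0)).ne_zero⟩
    · obtain ⟨a, ha, rfl⟩ := Finset.mem_image.mp hy
      obtain ⟨ha, ha0⟩ := hmemA.mp ha
      refine (Finset.card_le_card fun d hd => ?_).trans (Finset.card_le_two (a := a) (b := -a))
      obtain ⟨hd, he⟩ := Finset.mem_filter.mp hd
      obtain ⟨hd, hd0⟩ := hmemA.mp hd
      have he' : a * z * (a * z) = d * z * (d * z) := by rw [← mul_assoc, ← mul_assoc, he]
      have hu : IsUnit z := h.unit z hz hz0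
      rcases (h.translate hp hz hz0).sq_inj hp ⟨a, ha, rfl⟩ ⟨d, hd, rfl⟩ he' with e | e
      · exact Finset.mem_insert.mpr (Or.inl (hu.mul_left_inj.mp e))
      · exact Finset.mem_insert.mpr (Or.inr (Finset.mem_singleton.mpr (hu.mul_left_inj.mp (e.trans (neg_mul a z).symm))))
  have hdisj : ∀ {u w : R}, u ∈ J → u ≠ 0 → w ∈ J → w ≠ 0 → ¬ rel u w →
      Disjoint (A.image (fun a => a * u * a)) (A.image (fun a => a * w * a)) := by
    intro u w hu hu0 hw hw0 hn
    rw [Finset.disjoint_left]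
    intro y hyu hyw
    obtain ⟨a, ha, rfl⟩ := Finset.mem_image.mp hyu
    obtain ⟨b, hb, e⟩ := Finset.mem_image.mp hyw
    obtain ⟨ha, ha0⟩ := hmemA.mp ha
    obtain ⟨hb, hb0⟩ := hmemA.mp hb
    exact hn (htrans _ _ _ (hrel a ha ha0 u hu hu0) (hsymm _ _ (e ▸ hrel b hb hb0 w hw hw0)))
  by_contra hno
  push Not at hno
  obtain ⟨n12, n13, n23⟩ := hno
  obtain ⟨s1, c1⟩ := hsub h₁ h₁0
  obtain ⟨s2, c2⟩ := hsub h₂ h₂0
  obtain ⟨s3, c3⟩ := hsub h₃ h₃0
  have hle := Finset.card_le_card (Finset.union_subset (Finset.union_subset s1 s2) s3)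
  rw [Finset.card_union_of_disjoint (Finset.disjoint_union_left.mpr
    ⟨hdisj h₁ h₁0 h₃ h₃0 n13, hdisj h₂ h₂0 h₃ h₃0 n23⟩), Finset.card_union_of_disjoint (hdisj h₁ h₁0 h₂ h₂0 n12)] at hle
  omega

end CfsgLib.QuadFixed
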