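import Cfsg.Agent.Lib.RootSub.QP.Pairs
import Cfsg.Agent.Lib.RootSub.QP.Semi
import Cfsg.Agent.Lib.Coprime
import Cfsg.Agent.Lib.Local
import Cfsg.Agent.Lib.QuadFixed.Jordan

/-!
Frames of minimal quadratic elements over the prime field: the copy of `SL₂(p)` of a frame, transitivity on
the frames with a given left member, the two classes inside a line, commutation of different line classes.
-/

set_option autoImplicit false
set_option linter.unusedSectionVars false

namespace CfsgLib.QuadFixed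

open CfsgLib.QP

universe u

variable {p : ℕ} [Fact p.Prime] {M : Type u} [AddCommGroup M] [Module (ZMod p) M] [FiniteDimensional (ZMod p) M]

local notation "GL'" => LinearMap.GeneralLinearGroup (ZMod p) M
local notation "E'" => Module.End (ZMod p) M

variable {G : Subgroup (LinearMap.GeneralLinearGroup (ZMod p) M)} {x r : Module.End (ZMod p) M}

theorem ringChar_ne_two (hp : 5 ≤ p) : ringChar (ZMod p) ≠ 2 := by
  rw [ZMod.ringChar_zmod_n]; omega

theorem card_ne_three (hp : 5 ≤ p) : Nat.card (ZMod p) ≠ 3 := by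
  rw [Nat.card_zmod]; omega

/-- The space, its endomorphisms and its linear group are finite. -/
instance finite_end : Finite (Module.End (ZMod p) M) :=
  haveI : Finite M := Module.finite_of_finite (ZMod p)
  Finite.of_injective (fun f => (f : M → M)) DFunLike.coe_injective

instance finite_GL : Finite (LinearMap.GeneralLinearGroup (ZMod p) M) :=
  Finite.of_injective (fun g => (g : Module.End (ZMod p) M)) Units.val_injective

theorem conjE_mulAction (g h : GL') (s : E') : conjE (g * h) s = conjE g (conjE h s) := by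
  simp [conjE, mul_assoc]

theorem conjE_one (s : E') : conjE (1 : GL') s = s := by simp [conjE]

theorem conjE_one' (g : GL') : conjE g (1 : E') = 1 := by simp [conjE]

theorem conjE_add (g : GL') (s t : E') : conjE g (s + t) = conjE g s + conjE g t := by
  simp [conjE, mul_add, add_mul]

theorem conjE_sub (g : GL') (s t : E') : conjE g (s - t) = conjE g s - conjE g t := by
  simp [conjE, mul_sub, sub_mul]

theorem conjE_neg (g : GL') (s : E') : conjE g (-s) = -conjE g s := by simp [conjE]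

theorem conjE_eq_iff (g : GL') (s t : E') : conjE g s = t ↔ (g : E') * s = t * g := by
  constructor
  · rintro rfl; simp [conjE, mul_assoc]
  · intro h; rw [conjE, h, mul_assoc, Units.mul_inv, mul_one]

/-- With all unipotent normal subgroups trivial every minimal element has an opposite. -/
theorem exists_frame_of_semi (hk2 : ringChar (ZMod p) ≠ 2) (hk3 : Nat.card (ZMod p) ≠ 3) (hG : Semi G)
    (hx : Min G x) : ∃ r, Frame G x r := by
  by_contra hno
  set σ := mk x hx.1.sq with hσdef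
  have hσ : σ ∈ Cfsg.minimalQuadraticElements G := mem_minimal_iff.mpr (by rw [mk_sub_one]; exact hx)
  have hnil : ∀ g ∈ G, IsNilpotent (x * conjE g x + conjE g x * x) := fun g hg => by
    by_contra hn
    obtain ⟨r, hr, -⟩ := exists_normalized hk2 hk3 hx (hx.conjE hg) hn
    exact hno ⟨r, hr⟩
  set W : Set (Subgroup GL') :=
    {A | ∃ g ∈ G, A = Cfsg.sameActionSubgroup G (g * σ * g⁻¹)} with hW
  have hWW : ∀ A ∈ W, ∀ B ∈ W, Cfsg.IsUnipotentOn (A ⊔ B) := by
    rintro A ⟨g, hg, rfl⟩ B ⟨h, hh, rfl⟩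
    refine unipotent_classes hk2 hk3 (conj_mem_minimal hσ hg) (conj_mem_minimal hσ hh) ?_
    rw [conj_sub_one, conj_sub_one, mk_sub_one]
    obtain ⟨n, hn⟩ := hnil _ (mul_mem (inv_mem hg) hh)
    refine ⟨n, ?_⟩
    have e : conjE h x = conjE g (conjE (g⁻¹ * h) x) := by rw [← conjE_mulAction, mul_inv_cancel_left]
    have ep : ∀ m : ℕ, conjE g (x * conjE (g⁻¹ * h) x + conjE (g⁻¹ * h) x * x) ^ m =
        conjE g ((x * conjE (g⁻¹ * h) x + conjE (g⁻¹ * h) x * x) ^ m) := fun m => by
      induction m with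
      | zero => simp [conjE]
      | succ m ih => rw [pow_succ, ih, pow_succ, conjE_mul]
    rw [e, conjE_mul, conjE_mul, ← conjE_add, ep, hn]
    simp [conjE]
  have hWconj : ∀ A ∈ W, ∀ g ∈ G, Cfsg.conjBy A g ∈ W := by
    rintro A ⟨h, hh, rfl⟩ g hg
    refine ⟨g * h, mul_mem hg hh, ?_⟩
    rw [conjBy_sameActionSubgroup hg, show g * (h * σ * h⁻¹) * g⁻¹ = g * h * σ * (g * h)⁻¹ by group]
  have hWG : ∀ A ∈ W, A ≤ G := by rintro A ⟨g, -, rfl⟩; exact sameActionSubgroup_le
  obtain ⟨hu, hnorm⟩ := Cfsg.Agent.S5061.result hWG hWW hWconj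
  have hσN : σ ∈ ⨆ A ∈ W, A := Subgroup.mem_iSup_of_mem _ (Subgroup.mem_iSup_of_mem
    (show Cfsg.sameActionSubgroup G σ ∈ W from ⟨1, one_mem _, by simp⟩) (self_mem_sameActionSubgroup hσ))
  rw [unipotent_eq_bot hG (iSup₂_le hWG) hnorm hu, Subgroup.mem_bot] at hσN
  exact hx.1.ne (by rw [← mk_sub_one x hx.1.sq, ← hσdef, hσN, Units.val_one, sub_self])

theorem frame_symm (F : Frame G x r) : Frame G r x := ⟨F.right, F.left, F.rxr, F.xrx⟩

theorem cc_symm (x r : E') : cc r x = cc x r := by rw [cc, cc]; abel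

/-! ### The homomorphism from `SL₂(p)` -/

/-- The element with matrix `a b c d` in the frame. -/
def mat (x r : E') (a b c d : ZMod p) : E' :=
  cc x r + a • (x * r) + b • x + c • r + d • (r * x)

theorem mat_one (x r : E') : mat x r 1 0 0 1 = 1 := by
  simp only [mat, one_smul, zero_smul, add_zero, cc]; abel

theorem frame_rules (F : Frame G x r) :
    x * x = 0 ∧ r * r = 0 ∧ x * (r * x) = x ∧ r * (x * r) = r := by
  refine ⟨F.left.1.sq, F.right.1.sq, ?_, ?_⟩
  · rw [← mul_assoc, F.xrx]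
  · rw [← mul_assoc, F.rxr]

theorem mat_mul (F : Frame G x r) (a b c d a' b' c' d' : ZMod p) :
    mat x r a b c d * mat x r a' b' c' d' =
      mat x r (a * a' + b * c') (a * b' + b * d') (c * a' + d * c') (c * b' + d * d') := by
  obtain ⟨hx, hr, hxrx, hrxr⟩ := frame_rules F
  obtain ⟨c1, c2, c3, c4, c5⟩ := F.cc_mul
  have hx' : ∀ y, x * (x * y) = 0 := fun y => by rw [← mul_assoc, hx, zero_mul]
  have hr' : ∀ y, r * (r * y) = 0 := fun y => by rw [← mul_assoc, hr, zero_mul]
  have c1' : ∀ y, cc x r * (x * y) = 0 := fun y => by rw [← mul_assoc, c1, zero_mul]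
  have c3' : ∀ y, cc x r * (r * y) = 0 := fun y => by rw [← mul_assoc, c3, zero_mul]
  simp only [mat, mul_add, add_mul, smul_mul_assoc, mul_smul_comm, smul_smul, mul_assoc, c1, c2, c3, c4, c5, hx, hr,
    hxrx, hrxr, hx', hr', c1', c3', mul_zero, smul_zero, add_zero, zero_add, add_smul]
  module

/-- The homomorphism into the endomorphisms. -/
def sl2End (F : Frame G x r) : Matrix.SpecialLinearGroup (Fin 2) (ZMod p) →* E' where
  toFun g := mat x r (g.1 0 0) (g.1 0 1) (g.1 1 0) (g.1 1 1)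
  map_one' := by simp [mat_one]
  map_mul' g h := by rw [mat_mul F]; simp [Gen.mul_entry]

/-- The homomorphism from `SL₂(p)` of a frame. -/
def sl2 (F : Frame G x r) : Matrix.SpecialLinearGroup (Fin 2) (ZMod p) →* GL' := (sl2End F).toHomUnits

theorem sl2_val (F : Frame G x r) (g : Matrix.SpecialLinearGroup (Fin 2) (ZMod p)) :
    (sl2 F g : E') = mat x r (g.1 0 0) (g.1 0 1) (g.1 1 0) (g.1 1 1) := rfl

theorem sl2_up (F : Frame G x r) (t : ZMod p) : (sl2 F (Gen.up t) : E') = 1 + t • x := by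
  simp only [sl2_val, Gen.coe_up, mat, cc, Matrix.of_apply, Matrix.cons_val', Matrix.cons_val_zero,
    Matrix.cons_val_one, Matrix.cons_val_fin_one, one_smul, zero_smul, add_zero]
  abel

theorem sl2_lo (F : Frame G x r) (t : ZMod p) : (sl2 F (Gen.lo t) : E') = 1 + t • r := by
  simp only [sl2_val, Gen.coe_lo, mat, cc, Matrix.of_apply, Matrix.cons_val', Matrix.cons_val_zero,
    Matrix.cons_val_one, Matrix.cons_val_fin_one, one_smul, zero_smul, add_zero]
  abel

theorem sl2_mem (F : Frame G x r) (g : Matrix.SpecialLinearGroup (Fin 2) (ZMod p)) : sl2 F g ∈ G := by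
  have hup : ∀ t, sl2 F (Gen.up t) ∈ G := fun t => InG.mem (by rw [sl2_up]; exact F.left.1.fam t)
  have hlo : ∀ t, sl2 F (Gen.lo t) ∈ G := fun t => InG.mem (by rw [sl2_lo]; exact F.right.1.fam t)
  have key : ∀ g : Matrix.SpecialLinearGroup (Fin 2) (ZMod p), g.1 1 0 ≠ 0 → sl2 F g ∈ G := by
    intro g hc
    have hdet := Gen.det_eq g
    have e : g = Gen.up ((g.1 0 0 - 1) / g.1 1 0) * Gen.lo (g.1 1 0) * Gen.up ((g.1 1 1 - 1) / g.1 1 0) := by
      apply Gen.ext_entries <;> simp [Gen.mul_entry] <;> field_simp <;>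
        first | ring1 | linear_combination -hdet | linear_combination hdet
    rw [e, map_mul, map_mul]
    exact mul_mem (mul_mem (hup _) (hlo _)) (hup _)
  by_cases hc : g.1 1 0 = 0
  · have hd : g.1 1 1 ≠ 0 := fun e => by simpa [hc, e] using Gen.det_eq g
    have e : g = g * Gen.lo 1 * Gen.lo (-1) := by
      rw [mul_assoc, Gen.lo_mul, add_neg_cancel, Gen.lo_zero, mul_one]
    rw [e, map_mul]
    exact mul_mem (key _ (by simp [Gen.mul_entry, hc, hd])) (hlo _)
  · exact key g hc

theorem sl2_injective (F : Frame G x r) : Function.Injective (sl2 F) := by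
  rw [injective_iff_map_eq_one]
  intro g hg
  have h0 : mat x r (g.1 0 0) (g.1 0 1) (g.1 1 0) (g.1 1 1) = mat x r 1 0 0 1 := by
    rw [← sl2_val F, hg, mat_one, Units.val_one]
  obtain ⟨hx, hr, hxrx, hrxr⟩ := frame_rules F
  obtain ⟨c1, c2, c3, c4, -⟩ := F.cc_mul
  have hx' : ∀ y, x * (x * y) = 0 := fun y => by rw [← mul_assoc, hx, zero_mul]
  have hne : x ≠ 0 := F.left.1.ne
  have hz : ∀ a : ZMod p, a • x = 0 → a = 0 := fun a h => (smul_eq_zero.mp h).resolve_right hne
  have ex : ∀ a b c d : ZMod p, x * mat x r a b c d * x = c • x := by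
    intro a b c d
    simp only [mat, mul_add, add_mul, smul_mul_assoc, mul_smul_comm, mul_assoc, c1, hx, hxrx, hx', mul_zero,
      smul_zero, add_zero, zero_add]
  have ec : g.1 1 0 = 0 := by
    have := congrArg (fun y => x * y * x) h0
    simp only [ex, zero_smul] at this
    exact hz _ this
  have ea : g.1 0 0 = 1 := by
    have := congrArg (fun y => y * x) h0
    simp only [mat, add_mul, smul_mul_assoc, mul_assoc, c1, hx, hxrx, ec, mul_zero, smul_zero, add_zero, zero_add,
      zero_smul] at this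
    exact sub_eq_zero.mp (hz _ (by rw [sub_smul, this, sub_self]))
  have ed : g.1 1 1 = 1 := by
    have := congrArg (fun y => x * y) h0
    simp only [mat, mul_add, mul_smul_comm, c2, hx, hxrx, hx', ec, mul_zero, smul_zero, add_zero, zero_add,
      zero_smul] at this
    exact sub_eq_zero.mp (hz _ (by rw [sub_smul, this, sub_self]))
  have eb : g.1 0 1 = 0 := by
    rw [ea, ec, ed] at h0
    simp only [mat, zero_smul, add_zero, add_left_inj] at h0
    exact hz _ (by simpa using h0)
  exact Gen.ext_entries (by simpa using ea) (by simpa using eb) (by simpa using ec) (by simpa using ed)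

/-- The flip. -/
def wmat : Matrix.SpecialLinearGroup (Fin 2) (ZMod p) := ⟨!![0, 1; -1, 0], by simp [Matrix.det_fin_two_of]⟩

theorem w_val (F : Frame G x r) : (sl2 F wmat : E') = cc x r + x - r := by
  rw [sl2_val]
  show mat x r 0 1 (-1) 0 = _
  simp [mat]; abel

theorem conj_w (F : Frame G x r) {u : E'} (h1 : cc x r * u = 0) (h2 : u * cc x r = 0) (h3 : r * u = 0)
    (h4 : u * r = 0) : conjE (sl2 F wmat) u = -(x * u * x) := by
  rw [conjE_eq_iff]
  obtain ⟨hx, hr, hxrx, hrxr⟩ := frame_rules F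
  obtain ⟨c1, c2, c3, c4, -⟩ := F.cc_mul
  rw [w_val]
  have h4' : ∀ y, u * (r * y) = 0 := fun y => by rw [← mul_assoc, h4, zero_mul]
  have h2' : ∀ y, u * (cc x r * y) = 0 := fun y => by rw [← mul_assoc, h2, zero_mul]
  have e1 : u = u * (x * r) := by
    conv_lhs => rw [← mul_one u, show (1 : E') = cc x r + (x * r + r * x) from by rw [cc]; abel]
    rw [mul_add, mul_add, h2, h4', zero_add, add_zero]
  have r1 : (cc x r + x - r) * u = x * u := by
    rw [sub_mul, add_mul, h1, h3, zero_add, sub_zero]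
  have r2 : -(x * u * x) * (cc x r + x - r) = x * (u * (x * r)) := by
    simp only [mul_add, mul_sub, neg_mul, mul_assoc, c2, hx, mul_zero, neg_zero, add_zero, zero_sub, neg_neg]
  rw [r1, r2, ← e1]

theorem conj_w_self (F : Frame G x r) : conjE (sl2 F wmat) x = -r := by
  rw [conjE_eq_iff]
  obtain ⟨hx, hr, hxrx, hrxr⟩ := frame_rules F
  obtain ⟨c1, c2, c3, c4, -⟩ := F.cc_mul
  rw [w_val]
  simp only [sub_mul, add_mul, mul_sub, mul_add, neg_mul, mul_neg, c1, c4, hx, hr, zero_add, add_zero, zero_sub,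
    sub_zero, neg_zero, neg_neg]

/-! ### Transitivity on the frames with given left member -/

/-- The unipotent elements attached to a frame. -/
def unip (G : Subgroup GL') (x r : E') (g : GL') : Prop :=
  g ∈ G ∧ x * ((g : E') - 1) = 0 ∧ ((g : E') - 1) * x = 0 ∧ (1 - x * r) * ((g : E') - 1) * (1 - r * x) = 0

theorem unip_cube {u : E'} (h1 : x * u = 0) (h2 : u * x = 0) (h3 : (1 - x * r) * u * (1 - r * x) = 0) :
    u * u * u = 0 := by
  have e1 : u = (1 - r * x) * u := by rw [sub_mul, one_mul, mul_assoc, h1, mul_zero, sub_zero]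
  have e2 : u * (1 - r * x) = x * r * u * (1 - r * x) := by
    rw [mul_assoc _ u (1 - r * x), ← sub_eq_zero]
    rw [mul_assoc, sub_mul, one_mul] at h3
    exact h3
  have e3 : u * (x * r) = 0 := by rw [← mul_assoc, h2, zero_mul]
  calc u * u * u = u * ((1 - r * x) * u) * ((1 - r * x) * u) := by rw [← e1]
    _ = u * (1 - r * x) * (u * (1 - r * x)) * u := by simp only [mul_assoc]
    _ = u * (1 - r * x) * (x * r * u * (1 - r * x)) * u := by rw [← e2]
    _ = u * ((1 - r * x) * (x * r)) * (u * (1 - r * x)) * u := by simp only [mul_assoc]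
    _ = u * (x * r - r * (x * x) * r) * (u * (1 - r * x)) * u := by
        rw [sub_mul, one_mul]; simp only [mul_assoc]
    _ = (u * (x * r) - u * (r * (x * x) * r)) * (u * (1 - r * x)) * u := by rw [mul_sub]
    _ = -(u * (r * (x * x) * r) * (u * (1 - r * x)) * u) := by rw [e3, zero_sub, neg_mul, neg_mul]
    _ = -(u * r * (x * (x * r) * (u * (1 - r * x))) * u) := by simp only [mul_assoc]
    _ = -(u * r * (x * (x * r * u * (1 - r * x))) * u) := by simp only [mul_assoc]
    _ = -(u * r * (x * u * (1 - r * x)) * u) := by rw [← e2, ← mul_assoc x]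
    _ = 0 := by rw [h1, zero_mul, mul_zero, zero_mul, neg_zero]

/-- The unipotent elements form a subgroup. -/
def unipGroup (G : Subgroup GL') (x r : E') : Subgroup GL' :=
  haveI : Finite M := Module.finite_of_finite (ZMod p)
  { carrier := {g | unip G x r g}
    one_mem' := ⟨one_mem _, by simp, by simp, by simp⟩
    mul_mem' := fun {a b} ⟨ha, a1, a2, a3⟩ ⟨hb, b1, b2, b3⟩ => by
      set e := (a : E') - 1
      set f := (b : E') - 1
      have hab : ((a * b : GL') : E') - 1 = e + f + e * f := by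
        rw [Units.val_mul]; simp only [e, f]; noncomm_ring
      refine ⟨mul_mem ha hb, ?_, ?_, ?_⟩
      · rw [hab, mul_add, mul_add, a1, b1, ← mul_assoc, a1]; simp
      · rw [hab, add_mul, add_mul, a2, b2, mul_assoc, b2]; simp
      · have e2 : f * (1 - r * x) = x * r * f * (1 - r * x) := by
          rw [mul_assoc _ f (1 - r * x), ← sub_eq_zero]
          rw [mul_assoc, sub_mul, one_mul] at b3
          exact b3
        have e3 : e * f * (1 - r * x) = 0 := by
          rw [mul_assoc, e2, ← mul_assoc, ← mul_assoc, ← mul_assoc, a2]; simp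
        rw [hab, mul_add, mul_add, add_mul, add_mul, a3, b3, mul_assoc (1 - x * r), e3]; simp
    inv_mem' := fun {a} ha => by
      have h : ∀ n : ℕ, unip G x r (a ^ n) := by
        intro n
        induction n with
        | zero => exact ⟨one_mem _, by simp, by simp, by simp⟩
        | succ n ih =>
          obtain ⟨ha', a1, a2, a3⟩ := ha
          obtain ⟨hb, b1, b2, b3⟩ := ih
          rw [pow_succ]
          set e := ((a ^ n : GL') : E') - 1
          set f := (a : E') - 1
          have hab : ((a ^ n * a : GL') : E') - 1 = e + f + e * f := by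
            rw [Units.val_mul]; simp only [e, f]; noncomm_ring
          refine ⟨mul_mem hb ha', ?_, ?_, ?_⟩
          · rw [hab, mul_add, mul_add, a1, b1, ← mul_assoc, b1]; simp
          · rw [hab, add_mul, add_mul, a2, b2, mul_assoc, a2]; simp
          · have e2 : f * (1 - r * x) = x * r * f * (1 - r * x) := by
              rw [mul_assoc _ f (1 - r * x), ← sub_eq_zero]
              rw [mul_assoc, sub_mul, one_mul] at a3
              exact a3
            have e3 : e * f * (1 - r * x) = 0 := by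
              rw [mul_assoc, e2, ← mul_assoc, ← mul_assoc, ← mul_assoc, b2]; simp
            rw [hab, mul_add, mul_add, add_mul, add_mul, a3, b3, mul_assoc (1 - x * r), e3]; simp
      have e : a ^ (orderOf a - 1) = a⁻¹ := eq_inv_of_mul_eq_one_left (by
        rw [← pow_succ, Nat.sub_add_cancel (orderOf_pos a), pow_orderOf_eq_one])
      exact e ▸ h (orderOf a - 1) }

theorem isPGroup_unipGroup (hp : 5 ≤ p) : IsPGroup p (unipGroup G x r) := by
  rintro ⟨g, -, h1, h2, h3⟩
  refine ⟨1, Subtype.ext (Units.ext ?_)⟩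
  set u := (g : E') - 1 with hu
  have e : (g : E') = 1 + u := by rw [hu]; abel
  simp only [pow_one, SubmonoidClass.coe_pow, Units.val_pow_eq_pow_val, OneMemClass.coe_one, Units.val_one]
  rcases subsingleton_or_nontrivial M with hM | hM
  · exact LinearMap.ext fun _ => Subsingleton.elim _ _
  haveI : CharP E' p := charP_of_injective_algebraMap (algebraMap (ZMod p) E').injective p
  have h0 : u ^ p = 0 := by
    obtain ⟨j, hj⟩ : ∃ j, p = 3 + j := ⟨p - 3, by omega⟩
    calc u ^ p = u ^ (3 + j) := congrArg (fun n => u ^ n) hj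
      _ = 0 := by rw [pow_add, pow_succ, pow_two, unip_cube h1 h2 h3, zero_mul]
  rw [e, add_pow_char_of_commute p (Commute.one_left u), one_pow, h0, add_zero]

theorem exists_scalar_primePower (hp : 5 ≤ p) :
    ∃ (q : ℕ) (l : (ZMod p)ˣ), q.Prime ∧ (∃ k, orderOf l = q ^ k) ∧ q ≠ p ∧ l ≠ 1 ∧ l * l ≠ 1 := by
  obtain ⟨g, hg⟩ := IsCyclic.exists_ofOrder_eq_natCard (α := (ZMod p)ˣ)
  have hord : orderOf g = p - 1 := by
    rw [hg, Nat.card_eq_fintype_card, ZMod.card_units]
  have hdiv : ∀ m, m ∣ p - 1 → orderOf (g ^ ((p - 1) / m)) = m := fun m hm => by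
    have hm0 : m ≠ 0 := fun e => by rw [e, zero_dvd_iff] at hm; omega
    rw [orderOf_pow, hord, Nat.gcd_eq_right (Nat.div_dvd_of_dvd hm), Nat.div_div_self hm (by omega)]
  have hlow : ∀ {l : (ZMod p)ˣ}, 3 ≤ orderOf l → l ≠ 1 ∧ l * l ≠ 1 := fun {l} h => by
    refine ⟨fun e => ?_, fun e => ?_⟩
    · rw [e, orderOf_one] at h; omega
    · have := Nat.le_of_dvd two_pos (orderOf_dvd_of_pow_eq_one (show l ^ 2 = 1 by rw [pow_two, e]))
      omega
  rcases Nat.eq_two_pow_or_exists_odd_prime_and_dvd (p - 1) with ⟨j, hj⟩ | ⟨q, hq, hdq, hodd⟩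
  · have h4 : 4 ∣ p - 1 := by
      rw [hj]
      have : 2 ≤ j := by
        by_contra hh
        rcases (show j = 0 ∨ j = 1 by omega) with rfl | rfl <;> norm_num at hj <;> omega
      exact (show 4 = 2 ^ 2 by norm_num) ▸ Nat.pow_dvd_pow 2 this
    refine ⟨2, g ^ ((p - 1) / 4), Nat.prime_two, ⟨2, by rw [hdiv 4 h4]; norm_num⟩, by omega, hlow (by rw [hdiv 4 h4]; norm_num)⟩
  · have h3 : 3 ≤ q := by
      rcases hq.eq_two_or_odd with e | e
      · rw [e] at hodd; exact absurd hodd (by decide)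
      · have := hq.two_le; omega
    refine ⟨q, g ^ ((p - 1) / q), hq, ⟨1, by rw [hdiv q hdq, pow_one]⟩, ?_, hlow (by rw [hdiv q hdq]; exact h3)⟩
    have := Nat.le_of_dvd (by omega) hdq
    omega

/-- The scalar torus. -/
def torus : (ZMod p)ˣ →* Matrix.SpecialLinearGroup (Fin 2) (ZMod p) where
  toFun l := Gen.diag (l : ZMod p) ((l⁻¹ : (ZMod p)ˣ) : ZMod p) (by rw [← Units.val_mul, mul_inv_cancel, Units.val_one])
  map_one' := by apply Gen.ext_entries <;> rfl
  map_mul' a b := by
    apply Gen.ext_entries <;> rw [Gen.mul_entry] <;>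
      simp only [Gen.coe_diag, Matrix.of_apply, Matrix.cons_val', Matrix.cons_val_zero, Matrix.cons_val_one,
        Matrix.cons_val_fin_one, Units.val_mul, mul_inv_rev, mul_zero, zero_mul, add_zero, zero_add] <;>
      exact mul_comm _ _

theorem torus_val (F : Frame G x r) (l : (ZMod p)ˣ) :
    (sl2 F (torus l) : E') = cc x r + (l : ZMod p) • (x * r) + ((l⁻¹ : (ZMod p)ˣ) : ZMod p) • (r * x) := by
  simp only [sl2_val, torus, mat, MonoidHom.coe_mk, OneHom.coe_mk, Gen.coe_diag, Matrix.of_apply, Matrix.cons_val',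
    Matrix.cons_val_zero, Matrix.cons_val_one, Matrix.cons_val_fin_one, zero_smul, add_zero]

theorem x_mul_torus (F : Frame G x r) (l : (ZMod p)ˣ) :
    x * (sl2 F (torus l) : E') = ((l⁻¹ : (ZMod p)ˣ) : ZMod p) • x ∧ (sl2 F (torus l) : E') * x = (l : ZMod p) • x := by
  obtain ⟨hx, hr, hxrx, hrxr⟩ := frame_rules F
  obtain ⟨c1, c2, -⟩ := F.cc_mul
  have hx' : ∀ y, x * (x * y) = 0 := fun y => by rw [← mul_assoc, hx, zero_mul]
  rw [torus_val]
  constructor
  · simp only [mul_add, mul_smul_comm, c2, hx', hxrx, smul_zero, zero_add]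
  · simp only [add_mul, smul_mul_assoc, mul_assoc, c1, hxrx, hx, mul_zero, smul_zero, zero_add, add_zero]

/-- The frames with a given left member are conjugate under its unipotent group. -/
theorem frames_conj_unip (hp : 5 ≤ p) {r' : E'} (F : Frame G x r) (F' : Frame G x r') :
    ∃ n ∈ unipGroup G x r, conjE n x = x ∧ conjE n r = r' := by
  haveI : Finite M := Module.finite_of_finite (ZMod p)
  obtain ⟨q, l, hq, ⟨k, hk⟩, hqp, hl1, hl2⟩ := exists_scalar_primePower hp
  set h := sl2 F (torus l) with hh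
  set h' := sl2 F' (torus l) with hh'
  set U := unipGroup G x r with hU
  obtain ⟨hx, hr, hxrx, hrxr⟩ := frame_rules F
  obtain ⟨hx_, hr_, hxrx', hrxr'⟩ := frame_rules F'
  obtain ⟨c1, c2, c3, c4, -⟩ := F.cc_mul
  have hx' : ∀ y, x * (x * y) = 0 := fun y => by rw [← mul_assoc, hx, zero_mul]
  have hr'' : ∀ y, r * (r * y) = 0 := fun y => by rw [← mul_assoc, hr, zero_mul]
  obtain ⟨xh, hxh⟩ := x_mul_torus F l
  obtain ⟨xh', hxh'⟩ := x_mul_torus F' l
  obtain ⟨xhi, hxhi⟩ := x_mul_torus F l⁻¹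
  rw [map_inv, map_inv, ← hh] at xhi hxhi
  rw [inv_inv] at xhi
  have hli : ((l : (ZMod p)ˣ) : ZMod p) * ((l⁻¹ : (ZMod p)ˣ) : ZMod p) = 1 := by
    rw [← Units.val_mul, mul_inv_cancel, Units.val_one]
  have hinv : ((h⁻¹ : GL') : E') =
      cc x r + ((l⁻¹ : (ZMod p)ˣ) : ZMod p) • (x * r) + (l : ZMod p) • (r * x) := by
    rw [hh, ← map_inv, ← map_inv, torus_val, inv_inv]
  have hnorm : ∀ g ∈ U, h * g * h⁻¹ ∈ U := by
    rintro g ⟨hg, g1, g2, g3⟩
    have e : ((h * g * h⁻¹ : GL') : E') - 1 = (h : E') * ((g : E') - 1) * ((h⁻¹ : GL') : E') := by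
      rw [mul_sub, sub_mul, mul_one, Units.mul_inv, Units.val_mul, Units.val_mul]
    have k1 : (1 - x * r) * (h : E') = (h : E') * (1 - x * r) := by
      simp only [hh, torus_val, sub_mul, mul_sub, one_mul, mul_one, mul_add, add_mul, mul_smul_comm, smul_mul_assoc,
        mul_assoc, c1, c2, c3, c4, hxrx, hrxr, hx, hr, hx', hr'', mul_zero, smul_zero, add_zero, zero_add]
      simp only [← mul_assoc, c1, c2, zero_mul, sub_self, sub_zero, smul_zero, add_zero, zero_add, smul_sub]
      abel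
    have k2 : ((h⁻¹ : GL') : E') * (1 - r * x) = (1 - r * x) * ((h⁻¹ : GL') : E') := by
      simp only [hinv, sub_mul, mul_sub, one_mul, mul_one, mul_add, add_mul, mul_smul_comm, smul_mul_assoc,
        mul_assoc, c1, c2, c3, c4, hxrx, hrxr, hx, hr, hx', hr'', mul_zero, smul_zero, add_zero, zero_add]
      simp only [← mul_assoc, c3, c4, zero_mul, sub_self, sub_zero, smul_zero, add_zero, zero_add, smul_sub]
      abel
    refine ⟨mul_mem (mul_mem (sl2_mem F _) hg) (inv_mem (sl2_mem F _)), ?_, ?_, ?_⟩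
    · rw [e, ← mul_assoc, ← mul_assoc, xh, smul_mul_assoc, g1, smul_zero, zero_mul]
    · rw [e, mul_assoc, hxhi, mul_smul_comm, mul_assoc, g2, mul_zero, smul_zero]
    · rw [e, ← mul_assoc, ← mul_assoc, k1, mul_assoc _ ((h⁻¹ : GL') : E'), k2, ← mul_assoc,
        mul_assoc (h : E'), mul_assoc (h : E'), g3, mul_zero, zero_mul]
  have hu : h⁻¹ * h' ∈ U := by
    refine ⟨mul_mem (inv_mem (sl2_mem F _)) (sl2_mem F' _), ?_, ?_, ?_⟩
    · rw [Units.val_mul, mul_sub, mul_one, ← mul_assoc, xhi, smul_mul_assoc, xh', smul_smul, hli, one_smul, sub_self]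
    · rw [Units.val_mul, sub_mul, one_mul, mul_assoc, hxh', mul_smul_comm, hxhi, smul_smul, hli, one_smul, sub_self]
    · have eA : (1 - x * r) * ((h⁻¹ : GL') : E') = cc x r + (l : ZMod p) • (r * x) := by
        simp only [hinv, sub_mul, one_mul, mul_add, mul_smul_comm, mul_assoc, c4, hrxr, hr'', mul_zero, smul_zero]
        simp only [← mul_assoc, c2, hx, F.xrx, zero_mul, mul_zero, smul_zero, sub_zero, sub_self, add_zero]
      have eB : (h' : E') * (1 - r * x) = (1 - r * x) + ((l : ZMod p) - 1) • (x * r' * (1 - r * x)) := by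
        have e0 : x * (1 - r * x) = 0 := by rw [mul_sub, mul_one, hxrx, sub_self]
        rw [hh', torus_val, cc, add_mul, add_mul, sub_mul, sub_mul, one_mul, smul_mul_assoc, smul_mul_assoc,
          mul_assoc r' x, e0, mul_zero, smul_zero, sub_zero, add_zero, sub_smul, one_smul]
        abel
      have ef : (cc x r + (l : ZMod p) • (r * x)) * x = 0 := by
        rw [add_mul, smul_mul_assoc, mul_assoc, hx, mul_zero, smul_zero, c1, add_zero]
      have eg : (cc x r + (l : ZMod p) • (r * x)) * (1 - r * x) = cc x r := by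
        simp only [add_mul, mul_sub, mul_one, smul_mul_assoc, mul_assoc, hxrx, sub_self, smul_zero, add_zero]
        simp only [← mul_assoc, c3, zero_mul, sub_zero]
        abel
      have eh : (1 - x * r) * (1 - r * x) = cc x r := by
        simp only [cc, mul_sub, mul_one, sub_mul, one_mul, mul_assoc, hr'', mul_zero]; abel
      rw [Units.val_mul, mul_sub (1 - x * r), sub_mul _ _ (1 - r * x), mul_one, ← mul_assoc, eA, mul_assoc, eB, mul_add, eg, mul_smul_comm,
        mul_assoc x r', ← mul_assoc _ x, ef, zero_mul, smul_zero, add_zero, eh, sub_self]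
  set C := Subgroup.zpowers h with hC
  set C' := Subgroup.zpowers h' with hC'
  have hCU : C ≤ Subgroup.normalizer (U : Set GL') :=
    Subgroup.zpowers_le.mpr (CfsgLib.Local.mem_normalizer_of_map_conj_eq (Subgroup.eq_of_le_of_card_ge
      (by rintro _ ⟨g, hg, rfl⟩; exact hnorm g hg)
      (Subgroup.card_map_of_injective (MulAut.conj h).injective).ge))
  set W := U ⊔ C with hW
  have hC'W : C' ≤ W := by
    refine Subgroup.zpowers_le.mpr ?_
    rw [show h' = h * (h⁻¹ * h') by group]
    exact mul_mem (Subgroup.mem_sup_right (Subgroup.mem_zpowers h)) (Subgroup.mem_sup_left hu)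
  haveI : (U.subgroupOf W).Normal :=
    (Subgroup.normal_subgroupOf_iff_le_normalizer le_sup_left).mpr (sup_le Subgroup.le_normalizer hCU)
  have hord : ∀ {r₁ : E'} (F₁ : Frame G x r₁), orderOf (sl2 F₁ (torus l)) = q ^ k := fun F₁ => by
    rw [orderOf_injective _ (sl2_injective F₁), orderOf_injective torus (fun a b hab => Units.ext ?_), hk]
    exact congrArg (fun g : Matrix.SpecialLinearGroup (Fin 2) (ZMod p) => g.1 0 0) hab
  have hqU : (Nat.card C).Coprime (Nat.card U) := by
    obtain ⟨n, hn⟩ := IsPGroup.iff_card.mp (isPGroup_unipGroup (G := G) (x := x) (r := r) hp)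
    rw [hC, Nat.card_zpowers, hh, hord F, hU, hn]
    exact Nat.coprime_pow_primes k n hq Fact.out hqp
  have hcompl : (U.subgroupOf W).IsComplement' (C.subgroupOf W) := by
    refine Subgroup.isComplement'_of_disjoint_and_mul_eq_univ ?_ ?_
    · rw [Subgroup.disjoint_def]
      intro y hy hy'
      exact Subtype.ext (Subgroup.disjoint_def.mp (Subgroup.disjoint_of_coprime_natCard hqU) hy' hy)
    · refine Set.eq_univ_of_forall fun y => ?_
      obtain ⟨w, hw, a, ha, hwa⟩ := mem_sup_of_le_normalizer hCU y.2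
      exact Set.mem_mul.mpr ⟨⟨w, Subgroup.mem_sup_left hw⟩, hw, ⟨a, Subgroup.mem_sup_right ha⟩, ha,
        Subtype.ext hwa⟩
  have hcop' : (Nat.card (U.subgroupOf W)).Coprime (U.subgroupOf W).index := by
    rw [hcompl.symm.index_eq_card, Nat.card_congr (Subgroup.subgroupOfEquivOfLe (le_sup_left : U ≤ W)).toEquiv,
      Nat.card_congr (Subgroup.subgroupOfEquivOfLe (le_sup_right : C ≤ W)).toEquiv]
    exact hqU.symm
  have hcompl' : (U.subgroupOf W).IsComplement' (C'.subgroupOf W) := by
    refine isComplement'_of_card hcop' ?_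
    rw [hcompl.symm.index_eq_card, Nat.card_congr (Subgroup.subgroupOfEquivOfLe hC'W).toEquiv,
      Nat.card_congr (Subgroup.subgroupOfEquivOfLe (le_sup_right : C ≤ W)).toEquiv, hC, hC', Nat.card_zpowers,
      Nat.card_zpowers, hh, hh', hord F, hord F']
  have hsolv : Group.IsSolvable (U.subgroupOf W) ∨ Group.IsSolvable (W ⧸ U.subgroupOf W) := by
    refine Or.inl ?_
    haveI := (((isPGroup_unipGroup (G := G) (x := x) (r := r) hp)).of_equiv
      (Subgroup.subgroupOfEquivOfLe (le_sup_left : U ≤ W)).symm).isNilpotent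
    infer_instance
  obtain ⟨n, hn, he⟩ := complements_conj_mem hcop' hsolv hcompl hcompl'
  have hconj := conj_subgroupOf le_sup_right hC'W he
  obtain ⟨hnG, n1, n2, -⟩ := (show unip G x r (n : GL') from hn)
  have hxn : x * ((n : GL') : E') = x := by rwa [mul_sub, mul_one, sub_eq_zero] at n1
  have hnx : ((n : GL') : E') * x = x := by rwa [sub_mul, one_mul, sub_eq_zero] at n2
  have hxn' : x * (((n : GL')⁻¹ : GL') : E') = x := by
    conv_lhs => rw [← hxn, mul_assoc, Units.mul_inv, mul_one]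
  obtain ⟨i, hi⟩ : ∃ i : ℤ, h' ^ i = (n : GL') * h * (n : GL')⁻¹ := by
    rw [← Subgroup.mem_zpowers_iff, ← hC', ← hconj, mem_conj_smul_iff]
    simp [mul_assoc, hC]
  have hi' : h' = (n : GL') * h * (n : GL')⁻¹ := by
    rw [← hi]
    have e1 : h' ^ i = sl2 F' (torus (l ^ i)) := by rw [hh', map_zpow, map_zpow]
    have e2 : x * ((h' ^ i : GL') : E') = ((l⁻¹ : (ZMod p)ˣ) : ZMod p) • x := by
      rw [hi, Units.val_mul, Units.val_mul, ← mul_assoc, ← mul_assoc, hxn, xh, smul_mul_assoc, hxn']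
    rw [e1, (x_mul_torus F' (l ^ i)).1] at e2
    have e3 : ((l ^ i)⁻¹ : (ZMod p)ˣ) = l⁻¹ := Units.ext (smul_left_injective (ZMod p) F.left.1.ne e2)
    rw [e1, inv_inj.mp e3]
  have hcomm : (h' : E') * (n : GL') = ((n : GL') : E') * (h : E') := by
    rw [← Units.val_mul, ← Units.val_mul]
    exact congrArg Units.val (by rw [hi']; group)
  have proj : ∀ {r₁ : E'} (F₁ : Frame G x r₁),
      ((sl2 F₁ (torus l) : E') - 1) * ((sl2 F₁ (torus l) : E') - ((l⁻¹ : (ZMod p)ˣ) : ZMod p) • 1) =
        (((l : ZMod p) - 1) * ((l : ZMod p) - ((l⁻¹ : (ZMod p)ˣ) : ZMod p))) • (x * r₁) ∧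
      ((sl2 F₁ (torus l) : E') - 1) * ((sl2 F₁ (torus l) : E') - (l : ZMod p) • 1) =
        ((((l⁻¹ : (ZMod p)ˣ) : ZMod p) - 1) * (((l⁻¹ : (ZMod p)ˣ) : ZMod p) - (l : ZMod p))) • (r₁ * x) := by
    intro r₁ F₁
    have e1 : ∀ c : ZMod p, c • (1 : E') = mat x r₁ c 0 0 c + (c - 1) • cc x r₁ := fun c => by
      simp only [mat, zero_smul, add_zero, sub_smul, one_smul, cc, smul_sub]; abel
    obtain ⟨hxx, hrr, f1, f2⟩ := frame_rules F₁
    obtain ⟨d1, d2, d3, d4, d5⟩ := F₁.cc_mul
    have hA : (sl2 F₁ (torus l) : E') - 1 = ((l : ZMod p) - 1) • (x * r₁) +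
        (((l⁻¹ : (ZMod p)ˣ) : ZMod p) - 1) • (r₁ * x) := by
      rw [torus_val, sub_smul, sub_smul, one_smul, one_smul, cc]; abel
    have hxc : ∀ y, x * (x * y) = 0 := fun y => by rw [← mul_assoc, hxx, zero_mul]
    have hrc : ∀ y, r₁ * (r₁ * y) = 0 := fun y => by rw [← mul_assoc, hrr, zero_mul]
    constructor <;>
    · rw [hA, torus_val, e1, mat]
      simp only [zero_smul, add_zero, mul_add, add_mul, mul_sub, smul_mul_assoc, mul_smul_comm, smul_smul, mul_assoc,
        d2, d4, f1, f2, hxc, hrc, hxx, hrr, mul_zero, smul_zero, add_zero, zero_add, sub_zero]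
      simp only [← mul_assoc, d2, d4, zero_mul, smul_zero, add_zero, zero_add, sub_zero, zero_sub, sub_mul, sub_smul]
      module
  have hnproj : ∀ (c : ZMod p), ((n : GL') : E') * (((h : E') - 1) * ((h : E') - c • 1)) =
      (((h' : E') - 1) * ((h' : E') - c • 1)) * ((n : GL') : E') := by
    intro c
    have s1 : ((n : GL') : E') * ((h : E') - 1) = ((h' : E') - 1) * ((n : GL') : E') := by
      rw [mul_sub, sub_mul, mul_one, one_mul, hcomm]
    have s2 : ((n : GL') : E') * ((h : E') - c • 1) = ((h' : E') - c • 1) * ((n : GL') : E') := by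
      rw [mul_sub, sub_mul, hcomm, mul_smul_comm, smul_mul_assoc, mul_one, one_mul]
    rw [← mul_assoc, s1, mul_assoc, s2, ← mul_assoc]
  have hne : ∀ a : (ZMod p)ˣ, a ≠ 1 → a * a ≠ 1 →
      ((a : ZMod p) - 1) * ((a : ZMod p) - ((a⁻¹ : (ZMod p)ˣ) : ZMod p)) ≠ 0 := by
    intro a ha ha2
    refine mul_ne_zero (sub_ne_zero.mpr fun e => ha (Units.ext e)) (sub_ne_zero.mpr fun e => ha2 ?_)
    have : a = a⁻¹ := Units.ext e
    nth_rewrite 2 [this]
    exact mul_inv_cancel a
  have hne' : ((((l⁻¹ : (ZMod p)ˣ) : ZMod p) - 1) * (((l⁻¹ : (ZMod p)ˣ) : ZMod p) - (l : ZMod p))) ≠ 0 := by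
    have := hne l⁻¹ (inv_ne_one.mpr hl1) (fun e => hl2 (by rwa [← mul_inv_rev, inv_eq_one] at e))
    rwa [inv_inv] at this
  have p1 : ((n : GL') : E') * (x * r) = x * r' * ((n : GL') : E') := by
    have := hnproj ((l⁻¹ : (ZMod p)ˣ) : ZMod p)
    rw [(proj F).1, (proj F').1, mul_smul_comm, smul_mul_assoc] at this
    exact (smul_right_injective E' (hne l hl1 hl2)) this
  have p2 : ((n : GL') : E') * (r * x) = r' * x * ((n : GL') : E') := by
    have := hnproj (l : ZMod p)
    rw [(proj F).2, (proj F').2, mul_smul_comm, smul_mul_assoc] at this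
    exact (smul_right_injective E' hne') this
  refine ⟨n, hn, (conjE_eq_iff _ _ _).mpr (by rw [hnx, hxn]), (conjE_eq_iff _ _ _).mpr ?_⟩
  calc ((n : GL') : E') * r = ((n : GL') : E') * (r * x * r) := by rw [F.rxr]
    _ = ((n : GL') : E') * (r * x) * r := by simp only [mul_assoc]
    _ = r' * x * ((n : GL') : E') * r := by rw [p2]
    _ = r' * x * ((n : GL') : E') * r := rfl
    _ = r' * (((n : GL') : E') * x) * r := by rw [mul_assoc r' x, hxn, hnx]
    _ = r' * (((n : GL') : E') * (x * r)) := by simp only [mul_assoc]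
    _ = r' * (x * r' * ((n : GL') : E')) := by rw [p1]
    _ = r' * ((n : GL') : E') := by rw [← mul_assoc, ← mul_assoc, F'.rxr]

/-- The frames with a given left member are conjugate under its centralizer. -/
theorem frames_conj (hp : 5 ≤ p) {r' : E'} (F : Frame G x r) (F' : Frame G x r') :
    ∃ n ∈ G, conjE n x = x ∧ conjE n r = r' :=
  let ⟨n, hn, h1, h2⟩ := frames_conj_unip hp F F'
  ⟨n, hn.1, h1, h2⟩

/-! ### Classes -/

/-- Conjugacy under `G`. -/
def CRel (G : Subgroup GL') (a b : E') : Prop := ∃ g ∈ G, conjE g a = b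

/-- Conjugacy of lines under `G`. -/
def LRel (G : Subgroup GL') (a b : E') : Prop := ∃ g ∈ G, Same (conjE g a) b

theorem CRel.symm {a b : E'} (h : CRel G a b) : CRel G b a := by
  obtain ⟨g, hg, rfl⟩ := h
  exact ⟨g⁻¹, inv_mem hg, conjE_conjE g a⟩

theorem CRel.trans {a b c : E'} (h : CRel G a b) (h' : CRel G b c) : CRel G a c := by
  obtain ⟨g, hg, rfl⟩ := h
  obtain ⟨g', hg', rfl⟩ := h'
  exact ⟨g' * g, mul_mem hg' hg, conjE_mulAction g' g a⟩

theorem LRel.symm {a b : E'} (h : LRel G a b) : LRel G b a := by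
  obtain ⟨g, hg, hs⟩ := h
  refine ⟨g⁻¹, inv_mem hg, ?_⟩
  have := (hs.conjE g⁻¹).symm
  rwa [conjE_conjE] at this

theorem LRel.trans {a b c : E'} (h : LRel G a b) (h' : LRel G b c) : LRel G a c := by
  obtain ⟨g, hg, hs⟩ := h
  obtain ⟨g', hg', hs'⟩ := h'
  refine ⟨g' * g, mul_mem hg' hg, ?_⟩
  rw [conjE_mulAction]
  exact (hs.conjE g').trans hs'

theorem LRel.frame (F : Frame G x r) : LRel G x r := by
  refine ⟨sl2 F wmat, sl2_mem F _, ?_⟩
  rw [conj_w_self]
  exact ⟨by ext v; simp, by rw [LinearMap.range_neg]⟩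

/-- Members of different line classes commute. -/
theorem commute_of_not_lRel (hp : 5 ≤ p) (hG : Semi G) {s t : E'} (hS : Min G s) (hT : Min G t)
    (h : ¬ LRel G s t) : s * t = t * s := by
  have hk2 := ringChar_ne_two hp
  have hk3 := card_ne_three hp
  have hnil : ∀ {s t : E'}, Min G s → Min G t → ¬ LRel G s t → IsNilpotent (s * t + t * s) := by
    intro s t hS hT h
    by_contra hn
    obtain ⟨r', F, hr'⟩ := exists_normalized hk2 hk3 hS hT hn
    obtain ⟨g, hg, hs⟩ := LRel.frame F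
    exact h ⟨g, hg, hs.trans hr'.symm⟩
  by_contra hne
  obtain ⟨h1, h2⟩ := deep_zero (two_ne hk2) hS hT (hnil hS hT h)
  have hne' : s * t - t * s ≠ 0 := fun e => hne (sub_eq_zero.mp e)
  obtain ⟨hX, -⟩ := pair_spaces hS hT h1 h2 hne'
  obtain ⟨R, F⟩ := exists_frame_of_semi hk2 hk3 hG hX
  have key : ∀ {s t : E'}, Min G s → Mem G t → s * t * s = 0 → t * s * t = 0 →
      R * (s * t - t * s) * R = R → LRel G s R := by
    intro s t hS hT h1 h2 hR
    by_contra hn
    have hg : mk t hT.sq ∈ G := InG.mem (by rw [mk_val]; exact hT.inG)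
    have hu : conjE (mk t hT.sq) s = s - (s * t - t * s) := by
      rw [conjE_eq_iff, mk_val]
      simp only [sub_mul, mul_add, add_mul, one_mul, mul_one, mul_assoc, hT.sq, mul_zero]
      rw [← mul_assoc t s t, h2]
      abel
    have q1 := deep_zero (two_ne hk2) hS F.right (hnil hS F.right hn)
    have q2 := deep_zero (two_ne hk2) (hS.conjE hg) F.right
      (hnil (hS.conjE hg) F.right fun h' => hn ((show LRel G s (conjE (mk t hT.sq) s) from
        ⟨_, hg, Same.refl _⟩).trans h'))
    have : R * (s * t - t * s) * R = 0 := by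
      rw [show s * t - t * s = s - conjE (mk t hT.sq) s by rw [hu, sub_sub_cancel], mul_sub, sub_mul, q1.2, q2.2,
        sub_zero]
    exact F.right.1.ne (hR ▸ this)
  refine h ((key hS hT.1 h1 h2 F.rxr).trans ?_)
  have := key hT hS.neg.1 (by simp [h2]) (by simp [h1])
    (by rw [show t * -s - -s * t = s * t - t * s by simp [sub_eq_add_neg, add_comm]]; exact F.rxr)
  exact this.symm

/-- The members of a line. -/
def lineSet (G : Subgroup GL') (x : E') : AddSubgroup E' :=
  haveI : Finite M := Module.finite_of_finite (ZMod p)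
  { carrier := {y | InG G (1 + y) ∧ LinearMap.ker x ≤ LinearMap.ker y ∧ LinearMap.range y ≤ LinearMap.range x ∧
      x * x = 0} ∪ {0}
    zero_mem' := Or.inr rfl
    add_mem' := by
      rintro y z (⟨hy, hy1, hy2, hx⟩ | rfl) (⟨hz, hz1, hz2, hxz⟩ | rfl)
      · refine Or.inl ⟨?_, fun v hv => ?_, ?_, hx⟩
        · have h0 : y * z = 0 := LinearMap.ext fun v => hy1 (LinearMap.range_le_ker_iff.mpr hx (hz2 ⟨v, rfl⟩))
          have := hy.mul hz
          rwa [show (1 + y) * (1 + z) = 1 + (y + z) + y * z by noncomm_ring, h0, add_zero] at this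
        · rw [LinearMap.mem_ker, LinearMap.add_apply, hy1 hv, hz1 hv, add_zero]
        · rintro _ ⟨v, rfl⟩
          exact Submodule.add_mem _ (hy2 ⟨v, rfl⟩) (hz2 ⟨v, rfl⟩)
      · simp only [add_zero]; exact Or.inl ⟨hy, hy1, hy2, hx⟩
      · simp only [zero_add]; exact Or.inl ⟨hz, hz1, hz2, hxz⟩
      · exact Or.inr (add_zero _)
    neg_mem' := by
      rintro y (⟨hy, hy1, hy2, hx⟩ | rfl)
      · refine Or.inl ⟨?_, fun v hv => ?_, by rwa [LinearMap.range_neg], hx⟩
        · have h0 : y * y = 0 := LinearMap.ext fun v => hy1 (LinearMap.range_le_ker_iff.mpr hx (hy2 ⟨v, rfl⟩))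
          exact hy.inv (by rw [show (1 + y) * (1 + -y) = 1 - y * y by noncomm_ring, h0, sub_zero])
        · rw [LinearMap.mem_ker, LinearMap.neg_apply, hy1 hv, neg_zero]
      · exact Or.inr neg_zero }

/-- The members of a line, as a space. -/
def lineSpace (G : Subgroup GL') (x : E') : Submodule (ZMod p) E' := AddSubgroup.toZModSubmodule p (lineSet G x)

theorem mem_lineSpace_of_same (hx : Min G x) {y : E'} (hy : Min G y) (h : Same x y) : y ∈ lineSpace G x :=
  Or.inl ⟨hy.1.inG, h.1.ge, h.2.le, hx.1.sq⟩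

theorem same_of_mem_lineSpace (hx : Min G x) {y : E'} (hy : y ∈ lineSpace G x) (hy0 : y ≠ 0) :
    Same x y ∧ Min G y := by
  obtain ⟨-, h1, h2, hx2⟩ := (show _ ∨ y = 0 from hy).resolve_right hy0
  refine hx.same_of_le ⟨LinearMap.ext fun v => h1 (LinearMap.range_le_ker_iff.mpr hx2 (h2 ⟨v, rfl⟩)), hy0, fun c => ?_⟩ h1 h2
  rcases (show _ ∨ c • y = 0 from (lineSpace G x).smul_mem c hy) with h | h
  · exact h.1
  · rw [h, add_zero]; exact inG_one

/-- Among three members of a line two are conjugate. -/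
theorem two_classes_line (hp : 5 ≤ p) (F : Frame G x r) {y z : E'} (hy : Min G y) (hxy : Same x y) (hz : Min G z)
    (hxz : Same x z) : CRel G x y ∨ CRel G x z ∨ CRel G y z := by
  haveI : Finite M := Module.finite_of_finite (ZMod p)
  have hk2 := ringChar_ne_two hp
  have hk3 := card_ne_three hp
  obtain ⟨hx, hr, hxrx, hrxr⟩ := frame_rules F
  have hfix : ∀ {w}, Same x w → x * r * w = w ∧ w * (r * x) = w := by
    intro w h
    constructor
    · refine LinearMap.ext fun v => ?_
      obtain ⟨u, hu⟩ := h.2.le ⟨v, rfl⟩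
      show x (r (w v)) = w v
      rw [← hu]
      exact LinearMap.congr_fun F.xrx u
    · refine LinearMap.ext fun v => ?_
      have : r (x v) - v ∈ LinearMap.ker w := by
        rw [h.1, LinearMap.mem_ker, map_sub, sub_eq_zero]
        exact LinearMap.congr_fun F.xrx v
      rw [LinearMap.mem_ker, map_sub, sub_eq_zero] at this
      exact this
  set e := x * r with he
  have hee : e * e = e := by rw [he, ← mul_assoc, F.xrx]
  set L := LinearMap.range e with hL
  let Φ : E' →ₗ[ZMod p] Module.End (ZMod p) L :=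
    { toFun := fun a => (e.codRestrict L fun v => ⟨v, rfl⟩) ∘ₗ a ∘ₗ L.subtype
      map_add' := fun a b => by ext v; simp
      map_smul' := fun c a => by ext v; simp }
  have hΦ : ∀ a (v : L), ((Φ a v : L) : M) = e (a v) := fun a v => rfl
  have hΦmul : ∀ a b, Φ a * Φ b = Φ (a * e * b) := fun a b => by
    refine LinearMap.ext fun v => Subtype.ext ?_
    rw [Module.End.mul_apply, hΦ, hΦ, hΦ]
    rfl
  have hΦ1 : Φ e = 1 := by
    refine LinearMap.ext fun v => Subtype.ext ?_
    obtain ⟨w, hw⟩ := v.2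
    rw [hΦ, Module.End.one_apply, ← hw, show e (e w) = (e * e) w from rfl, hee, ← Module.End.mul_apply, hee]
  have hΦinj : ∀ a b, e * a * e = e * b * e → Φ a = Φ b := fun a b h => by
    refine LinearMap.ext fun v => Subtype.ext ?_
    obtain ⟨w, hw⟩ := v.2
    rw [hΦ, hΦ, ← hw]
    exact LinearMap.congr_fun h w
  let T : E' →ₗ[ZMod p] Module.End (ZMod p) L := Φ ∘ₗ LinearMap.mulRight (ZMod p) r
  have hT : ∀ a, T a = Φ (a * r) := fun a => rfl
  set J := (lineSpace G x).map T with hJ
  have hTinj : ∀ {a b : E'}, Same x a → Same x b → T a = T b → a = b := by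
    intro a b ha hb h
    have h' : e * (a * r) * e = e * (b * r) * e := by
      refine LinearMap.ext fun v => ?_
      exact congrArg Subtype.val (LinearMap.congr_fun h ⟨e v, ⟨v, rfl⟩⟩)
    have key : ∀ {a : E'}, Same x a → e * (a * r) * e * x = a := fun {a} ha => by
      obtain ⟨h1, h2⟩ := hfix ha
      rw [he, mul_assoc (x * r * (a * r)), F.xrx, ← mul_assoc (x * r), h1, mul_assoc, h2]
    rw [← key ha, h', key hb]
  have h0 : T x = 1 := by rw [hT, ← hΦ1]
  have hTmul : ∀ {a b : E'}, Same x a → T a * T b = T (a * r * b) := fun {a b} ha => by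
    rw [hT, hT, hT, hΦmul, he]
    congr 1
    obtain ⟨-, h2⟩ := hfix ha
    rw [show a * r * (x * r) * (b * r) = a * (r * x) * r * b * r by simp only [mul_assoc], h2]
  have hsandG : ∀ {a b : E'}, Same x a → Min G a → Same x b → Min G b →
      CRel G b (a * r * b * r * a) ∧ a * r * b * r * a ∈ lineSpace G x := by
    intro a b ha hA hb hB
    obtain ⟨r', F', hrr', har, hra⟩ := F.partner hk2 hk3 hA ha
    obtain ⟨c1, c2, c3, c4, -⟩ := F.cc_mul
    obtain ⟨hb1, hb2⟩ := hfix hb
    have k1 : cc x r * b = 0 := by rw [← hb1, ← mul_assoc, ← mul_assoc, c1, zero_mul, zero_mul]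
    have k2 : b * cc x r = 0 := by rw [← hb2, mul_assoc b, mul_assoc r, c2, mul_zero, mul_zero]
    have k3 : x * b = 0 := by rw [← hb1, ← mul_assoc, ← mul_assoc, hx, zero_mul, zero_mul]
    have k4 : b * x = 0 := by rw [← hb2, mul_assoc b, mul_assoc r, hx, mul_zero, mul_zero]
    have e1 := conj_w (frame_symm F) (u := b) (by rw [cc_symm]; exact k1) (by rw [cc_symm]; exact k2) k3 k4
    have ecc : cc a r' = cc x r := by rw [cc, cc, har, hra]
    have z1 : r' * r = 0 := LinearMap.range_le_ker_iff.mp (by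
      rw [hrr'.1]; exact LinearMap.range_le_ker_iff.mpr hr)
    have z2 : r * r' = 0 := LinearMap.range_le_ker_iff.mp (by
      rw [hrr'.2]; exact LinearMap.range_le_ker_iff.mpr hr)
    have e2 := conj_w F' (u := -(r * b * r)) (by rw [ecc, mul_neg, ← mul_assoc, ← mul_assoc, c3]; simp)
      (by rw [ecc, neg_mul, mul_assoc (r * b), c4]; simp) (by rw [mul_neg, ← mul_assoc, ← mul_assoc, z1]; simp)
      (by rw [neg_mul, mul_assoc (r * b), z2]; simp)
    have e3 : -(a * -(r * b * r) * a) = a * r * b * r * a := by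
      simp only [mul_neg, neg_mul, neg_neg, mul_assoc]
    rw [e3] at e2
    set g := sl2 F' wmat * sl2 (frame_symm F) wmat with hg
    have hgG : g ∈ G := mul_mem (sl2_mem F' _) (sl2_mem _ _)
    have heq : conjE g b = a * r * b * r * a := by rw [hg, conjE_mulAction, e1, e2]
    refine ⟨⟨g, hgG, heq⟩, Or.inl ⟨?_, fun v hv => ?_, ?_, hx⟩⟩
    · have := (hB.conjE hgG).1.inG
      rwa [heq] at this
    · have hav : a v = 0 := LinearMap.mem_ker.mp (ha.1.ge hv)
      rw [LinearMap.mem_ker, Module.End.mul_apply, hav, map_zero]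
    · rintro _ ⟨v, rfl⟩
      exact ha.2.le ⟨_, rfl⟩
  have hJordan : IsUnitJordan J := by
    refine ⟨⟨x, mem_lineSpace_of_same F.left F.left (Same.refl x), h0⟩, ?_, ?_⟩
    · rintro _ ⟨a, ha, rfl⟩ hne
      obtain ⟨ha', hA⟩ := same_of_mem_lineSpace F.left ha fun e0 => hne (by simp [e0])
      obtain ⟨r', F', hrr', har, hra⟩ := F.partner hk2 hk3 hA ha'
      obtain ⟨-, ha2⟩ := hfix ha'
      refine ⟨⟨T a, Φ (x * r'), ?_, ?_⟩, rfl⟩
      · rw [hT, hΦmul, ← hΦ1]
        congr 1
        calc a * r * e * (x * r') = a * (r * x * r) * (x * r') := by rw [he]; simp only [mul_assoc]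
          _ = a * (r * x) * r' := by rw [F.rxr]; simp only [mul_assoc]
          _ = e := by rw [ha2, har]
      · rw [hT, hΦmul, ← hΦ1]
        congr 1
        obtain ⟨ha1, -⟩ := hfix ha'
        calc x * r' * e * (a * r) = x * r' * (x * r * a) * r := by rw [he]; simp only [mul_assoc]
          _ = x * (r' * a) * r := by rw [ha1]; simp only [mul_assoc]
          _ = x * (r * x) * r := by rw [hra]
          _ = e := by rw [hxrx]
    · rintro _ ⟨a, ha, rfl⟩ _ ⟨b, hb, rfl⟩
      by_cases ha0 : a = 0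
      · simp [ha0]
      by_cases hb0 : b = 0
      · simp [hb0]
      obtain ⟨ha', hA⟩ := same_of_mem_lineSpace F.left ha ha0
      obtain ⟨hb', hB⟩ := same_of_mem_lineSpace F.left hb hb0
      obtain ⟨-, hm⟩ := hsandG ha' hA hb' hB
      exact ⟨_, hm, by rw [mul_assoc (T a), hTmul hb', hTmul ha', ← mul_assoc, ← mul_assoc]⟩
  set rel : Module.End (ZMod p) L → Module.End (ZMod p) L → Prop := fun a b =>
    ∃ a' b', Same x a' ∧ Same x b' ∧ T a' = a ∧ T b' = b ∧ CRel G a' b' with hrel
  haveI : Nontrivial (Module.End (ZMod p) L) := by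
    refine ⟨⟨1, 0, fun e0 => F.left.1.ne ?_⟩⟩
    have h1 : e = 0 := LinearMap.ext fun v => congrArg Subtype.val (LinearMap.congr_fun e0 ⟨e v, ⟨v, rfl⟩⟩)
    rw [← F.xrx, ← he, h1, zero_mul]
  have hne : ∀ {a}, Min G a → Same x a → T a ≠ 0 := fun {a} hA ha e0 => by
    obtain ⟨r', F', hrr', har, hra⟩ := F.partner hk2 hk3 hA ha
    obtain ⟨-, ha2⟩ := hfix ha
    have : T a * Φ (x * r') = 1 := by
      rw [hT, hΦmul, ← hΦ1]
      congr 1
      calc a * r * e * (x * r') = a * (r * x * r) * (x * r') := by rw [he]; simp only [mul_assoc]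
        _ = a * (r * x) * r' := by rw [F.rxr]; simp only [mul_assoc]
        _ = e := by rw [ha2, har]
    rw [e0, zero_mul] at this
    exact zero_ne_one this
  rcases hJordan.two_classes (by omega) rel
      (fun a b ⟨a', b', h1, h2, h3, h4, h5⟩ => ⟨b', a', h2, h1, h4, h3, h5.symm⟩)
      (fun a b c ⟨a', b', h1, h2, h3, h4, h5⟩ ⟨b'', c', k1, k2, k3, k4, k5⟩ => by
        obtain rfl : b' = b'' := hTinj h2 k1 (h4.trans k3.symm)
        exact ⟨a', c', h1, k2, h3, k4, h5.trans k5⟩)
      (fun a haJ ha b hbJ hb => by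
        obtain ⟨a', ha', rfl⟩ := haJ
        obtain ⟨b', hb', rfl⟩ := hbJ
        obtain ⟨haS, hA⟩ := same_of_mem_lineSpace F.left ha' fun e0 => ha (by simp [e0])
        obtain ⟨hbS, hB⟩ := same_of_mem_lineSpace F.left hb' fun e0 => hb (by simp [e0])
        obtain ⟨hc, hm⟩ := hsandG haS hA hbS hB
        refine ⟨b', _, hbS, (same_of_mem_lineSpace F.left hm ?_).1, rfl, ?_, hc⟩
        · obtain ⟨g, hg, hgb⟩ := hc
          exact hgb ▸ (hB.1.conjE hg).ne
        · rw [mul_assoc (T a'), hTmul hbS, hTmul haS, ← mul_assoc, ← mul_assoc])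
      (z₁ := T x) ⟨x, mem_lineSpace_of_same F.left F.left (Same.refl x), rfl⟩ (hne F.left (Same.refl x))
      (z₂ := T y) ⟨y, mem_lineSpace_of_same F.left hy hxy, rfl⟩ (hne hy hxy)
      (z₃ := T z) ⟨z, mem_lineSpace_of_same F.left hz hxz, rfl⟩ (hne hz hxz) with
    ⟨a, b, h1, h2, h3, h4, h5⟩ | ⟨a, b, h1, h2, h3, h4, h5⟩ | ⟨a, b, h1, h2, h3, h4, h5⟩
  · rw [hTinj h1 (Same.refl x) h3, hTinj h2 hxy h4] at h5; exact Or.inl h5
  · rw [hTinj h1 (Same.refl x) h3, hTinj h2 hxz h4] at h5; exact Or.inr (Or.inl h5)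
  · rw [hTinj h1 hxy h3, hTinj h2 hxz h4] at h5; exact Or.inr (Or.inr h5)

end CfsgLib.QuadFixed
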