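import Cfsg.Agent.Lib.QuadFixed.Frames
import Cfsg.Agent.Lib.QuadFixed.FixedPoint

/-!
A semisimple group with a quadratic element contains a copy of `SL₂(p)` modulo its centre centralized by
any coprime group of operators (`p ≥ 5`).
-/

set_option autoImplicit false
set_option linter.unusedSectionVars false

namespace CfsgLib.QuadFixed

open CfsgLib.QP

universe u

variable {p : ℕ} [Fact p.Prime] {M : Type u} [AddCommGroup M] [Module (ZMod p) M] [FiniteDimensional (ZMod p) M]

local notation "GL'" => LinearMap.GeneralLinearGroup (ZMod p) M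
local notation "E'" => Module.End (ZMod p) M

variable {G A : Subgroup (LinearMap.GeneralLinearGroup (ZMod p) M)}

/-- The action on endomorphisms by conjugation. -/
@[reducible] def conjAction : MulAction GL' E' where
  smul := conjE
  one_smul := conjE_one
  mul_smul := conjE_mulAction

theorem normalizer_conj {g : GL'} (hg : g ∈ Subgroup.normalizer (G : Set GL')) {u : GL'} (hu : u ∈ G) :
    g * u * g⁻¹ ∈ G := (Subgroup.mem_normalizer_iff.mp hg u).mp hu

theorem mem_conjE_of_normalizer {g : GL'} (hg : g ∈ Subgroup.normalizer (G : Set GL')) {s : E'} (h : Mem G s) :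
    Mem G (conjE g s) where
  sq := by rw [conjE_mul, h.sq]; simp [QP.conjE]
  ne := fun e => h.ne (by rw [← conjE_conjE g s, e]; simp [QP.conjE])
  fam c := by
    obtain ⟨u, hu, e⟩ := h.fam c
    refine ⟨g * u * g⁻¹, normalizer_conj hg hu, ?_⟩
    rw [← conjE_smul, ← sub_eq_iff_eq_add', conj_sub_one, e, add_sub_cancel_left]

theorem min_conjE_of_normalizer {g : GL'} (hg : g ∈ Subgroup.normalizer (G : Set GL')) {s : E'} (h : Min G s) :
    Min G (conjE g s) := by
  refine ⟨mem_conjE_of_normalizer hg h.1, fun u hu => ?_⟩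
  rw [rk_conjE]
  exact (h.2 _ (mem_conjE_of_normalizer (inv_mem hg) hu)).trans_eq (rk_conjE u g⁻¹)

theorem frame_conjE {g : GL'} (hg : g ∈ Subgroup.normalizer (G : Set GL')) {x r : E'} (F : Frame G x r) :
    Frame G (conjE g x) (conjE g r) :=
  ⟨min_conjE_of_normalizer hg F.left, min_conjE_of_normalizer hg F.right, by rw [conjE_mul, conjE_mul, F.xrx],
    by rw [conjE_mul, conjE_mul, F.rxr]⟩

theorem LRel.refl (s : E') : LRel G s s := ⟨1, one_mem _, by rw [conjE_one]; exact Same.refl s⟩

theorem LRel.conj {g : GL'} (hg : g ∈ Subgroup.normalizer (G : Set GL')) {s t : E'} (h : LRel G s t) :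
    LRel G (conjE g s) (conjE g t) := by
  obtain ⟨u, hu, hs⟩ := h
  refine ⟨g * u * g⁻¹, normalizer_conj hg hu, ?_⟩
  rw [← conjE_mulAction, inv_mul_cancel_right, conjE_mulAction]
  exact hs.conjE g

theorem CRel.refl (s : E') : CRel G s s := ⟨1, one_mem _, conjE_one s⟩

theorem CRel.conj {g : GL'} (hg : g ∈ Subgroup.normalizer (G : Set GL')) {s t : E'} (h : CRel G s t) :
    CRel G (conjE g s) (conjE g t) := by
  obtain ⟨u, hu, rfl⟩ := h
  refine ⟨g * u * g⁻¹, normalizer_conj hg hu, ?_⟩
  rw [← conjE_mulAction, inv_mul_cancel_right, conjE_mulAction]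

theorem conjE_mat (g : GL') (x r : E') (a b c d : ZMod p) :
    conjE g (mat x r a b c d) = mat (conjE g x) (conjE g r) a b c d := by
  simp only [mat, cc, conjE_add, conjE_sub, conjE_smul, ← conjE_mul, conjE_one']

theorem commute_mat {x r y s : E'} (h1 : x * y = y * x) (h2 : x * s = s * x) (h3 : r * y = y * r)
    (h4 : r * s = s * r) (a b c d a' b' c' d' : ZMod p) :
    Commute (mat x r a b c d) (mat y s a' b' c' d') := by
  have key : ∀ {u : E'}, Commute u y → Commute u s → Commute u (mat y s a' b' c' d') := by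
    intro u hy hs
    simp only [mat, cc]
    exact ((((((Commute.one_right u).sub_right (hy.mul_right hs)).sub_right (hs.mul_right hy)).add_right
      ((hy.mul_right hs).smul_right a')).add_right (hy.smul_right b')).add_right (hs.smul_right c')).add_right
      ((hs.mul_right hy).smul_right d')
  have hx := key (u := x) h1 h2
  have hr := key (u := r) h3 h4
  simp only [mat, cc] at hx hr ⊢
  exact ((((((Commute.one_left _).sub_left (hx.mul_left hr)).sub_left (hr.mul_left hx)).add_left
    ((hx.mul_left hr).smul_left a)).add_left (hx.smul_left b)).add_left (hr.smul_left c)).add_left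
    ((hr.mul_left hx).smul_left d)

/-- The elements fixing an endomorphism. -/
def stabE (x : E') : Subgroup GL' where
  carrier := {g | conjE g x = x}
  one_mem' := conjE_one x
  mul_mem' := fun {a b} (ha : conjE a x = x) (hb : conjE b x = x) => show conjE (a * b) x = x by
    rw [conjE_mulAction, hb, ha]
  inv_mem' := fun {a} (ha : conjE a x = x) => show conjE a⁻¹ x = x by
    conv_lhs => rw [← ha]
    exact conjE_conjE a x

/-- The operators preserving the line class. -/
def lineStab (hA : A ≤ Subgroup.normalizer (G : Set GL')) (x : E') : Subgroup GL' where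
  carrier := {a | a ∈ A ∧ LRel G x (conjE a x)}
  one_mem' := ⟨one_mem _, by rw [conjE_one]; exact LRel.refl x⟩
  mul_mem' := fun {a b} ⟨ha, ha'⟩ ⟨hb, hb'⟩ => ⟨mul_mem ha hb, by
    rw [conjE_mulAction]; exact ha'.trans (hb'.conj (hA ha))⟩
  inv_mem' := fun {a} ⟨ha, ha'⟩ => ⟨inv_mem ha, by
    have := ha'.conj (hA (inv_mem ha))
    rw [conjE_conjE] at this
    exact this.symm⟩

theorem odd_card_of_frame (hp : 5 ≤ p) (hcop : (Nat.card A).Coprime (Nat.card G)) {x r : E'} (F : Frame G x r) :
    Odd (Nat.card A) := by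
  set e : Matrix.SpecialLinearGroup (Fin 2) (ZMod p) := torus (-1) with he
  have h2 : ((⟨sl2 F e, sl2_mem F e⟩ : G)) ^ 2 = 1 := by
    refine Subtype.ext ?_
    rw [SubmonoidClass.coe_pow, ← map_pow, he, ← map_pow, neg_one_sq, map_one, map_one, OneMemClass.coe_one]
  have h1 : (⟨sl2 F e, sl2_mem F e⟩ : G) ≠ 1 := by
    intro h
    have h' : sl2 F e = sl2 F 1 := by rw [map_one]; exact congrArg Subtype.val h
    have h'' := congrArg (fun m : Matrix.SpecialLinearGroup (Fin 2) (ZMod p) => m.1 0 0) (sl2_injective F h')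
    have h0 : e.1 0 0 = -1 := by rw [he]; rfl
    simp only [h0] at h''
    rw [Matrix.SpecialLinearGroup.coe_one, Matrix.one_apply_eq] at h''
    exact two_ne (ringChar_ne_two hp) (by linear_combination -h'')
  have hd := orderOf_dvd_natCard (⟨sl2 F e, sl2_mem F e⟩ : G)
  haveI : Fact (Nat.Prime 2) := ⟨Nat.prime_two⟩
  rw [orderOf_eq_prime h2 h1] at hd
  exact Nat.not_even_iff_odd.mp fun hE =>
    absurd (Nat.eq_one_of_dvd_coprimes hcop hE.two_dvd hd) (by norm_num)

/-- An operator preserving the line class preserves the conjugacy class. -/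
theorem cRel_of_mem_lineStab (hp : 5 ≤ p) (hA : A ≤ Subgroup.normalizer (G : Set GL'))
    (hcop : (Nat.card A).Coprime (Nat.card G)) {x r : E'} (F : Frame G x r) {b : GL'}
    (hb : b ∈ lineStab hA x) : CRel G x (conjE b x) := by
  have hN : ∀ {c}, c ∈ lineStab hA x → c ∈ Subgroup.normalizer (G : Set GL') := fun hc => hA hc.1
  have to_line : ∀ {w}, Min G w → LRel G x w → ∃ y, Min G y ∧ Same x y ∧ CRel G w y := by
    intro w hw h
    obtain ⟨g, hg, hs⟩ := h
    refine ⟨conjE g⁻¹ w, hw.conjE (inv_mem hg), ?_, ⟨g⁻¹, inv_mem hg, rfl⟩⟩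
    have := hs.conjE g⁻¹
    rwa [conjE_conjE] at this
  have three : ∀ {w1 w2}, Min G w1 → LRel G x w1 → Min G w2 → LRel G x w2 →
      CRel G x w1 ∨ CRel G x w2 ∨ CRel G w1 w2 := by
    intro w1 w2 h1 l1 h2 l2
    obtain ⟨y, hy, sy, cy⟩ := to_line h1 l1
    obtain ⟨z, hz, sz, cz⟩ := to_line h2 l2
    rcases two_classes_line hp F hy sy hz sz with h | h | h
    · exact Or.inl (h.trans cy.symm)
    · exact Or.inr (Or.inl (h.trans cz.symm))
    · exact Or.inr (Or.inr (cy.trans (h.trans cz.symm)))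
  by_contra hne
  have hsq : CRel G x (conjE (b * b) x) := by
    have hb2 := mul_mem hb hb
    rcases three (min_conjE_of_normalizer (hN hb) F.left) hb.2 (min_conjE_of_normalizer (hN hb2) F.left) hb2.2
      with h | h | h
    · exact absurd h hne
    · exact h
    · rw [conjE_mulAction] at h
      have := h.conj (inv_mem (hN hb))
      rw [conjE_conjE, conjE_conjE] at this
      exact absurd this hne
  have hpow : ∀ n : ℕ, CRel G x (conjE ((b * b) ^ n) x) := fun n => by
    induction n with
    | zero => rw [pow_zero, conjE_one]; exact CRel.refl x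
    | succ n ih => rw [pow_succ', conjE_mulAction]; exact hsq.trans (ih.conj (hN (mul_mem hb hb)))
  obtain ⟨k, hk⟩ := odd_card_of_frame hp hcop F
  refine hne ?_
  have hb1 : b ^ Nat.card A = 1 :=
    congrArg Subtype.val (pow_card_eq_one' (G := A) (x := ⟨b, hb.1⟩))
  have e : (b * b) ^ (k + 1) = b := by
    rw [← pow_two, ← pow_mul, show 2 * (k + 1) = Nat.card A + 1 by omega, pow_succ, hb1, one_mul]
  have := hpow (k + 1)
  rwa [e] at this

/-- A frame fixed by the operators preserving its line class. -/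
theorem exists_fixed_frame (hp : 5 ≤ p) (hG : Semi G) (hA : A ≤ Subgroup.normalizer (G : Set GL'))
    (hcop : (Nat.card A).Coprime (Nat.card G)) (hex : ∃ s, Mem G s) :
    ∃ x r, Frame G x r ∧ ∀ a ∈ A, LRel G x (conjE a x) → conjE a x = x ∧ conjE a r = r := by
  classical
  letI := conjAction (p := p) (M := M)
  have hk2 := ringChar_ne_two hp
  have hk3 := card_ne_three hp
  obtain ⟨x0, hx0, hmin⟩ : ∃ x, Mem G x ∧ ∀ u, Mem G u → rk x ≤ rk u := by
    have hex' : ∃ n, ∃ x, Mem G x ∧ rk x = n := ⟨_, hex.choose, hex.choose_spec, rfl⟩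
    obtain ⟨x, hx, e⟩ := Nat.find_spec hex'
    exact ⟨x, hx, fun u hu => e ▸ Nat.find_min' hex' ⟨u, hu, rfl⟩⟩
  obtain ⟨r0, F0⟩ := exists_frame_of_semi hk2 hk3 hG ⟨hx0, hmin⟩
  set B := lineStab hA x0 with hBdef
  have hBA : B ≤ A := fun b hb => hb.1
  have hBG : B ≤ Subgroup.normalizer (G : Set GL') := hBA.trans hA
  have hcopB : (Nat.card B).Coprime (Nat.card G) := hcop.coprime_dvd_left (Subgroup.card_dvd_of_le hBA)
  obtain ⟨h, hh, hfix⟩ := exists_fixed hBG hcopB x0 (fun b hb => by
    obtain ⟨g, hg, e⟩ := cRel_of_mem_lineStab hp hA hcop F0 hb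
    exact ⟨g, hg, e.symm⟩)
  set x := conjE h x0 with hxdef
  have hxx0 : LRel G x0 x := ⟨h, hh, Same.refl _⟩
  have hxB : ∀ a ∈ A, LRel G x (conjE a x) → a ∈ B := fun a ha hl =>
    ⟨ha, hxx0.trans (hl.trans (hxx0.conj (hA ha)).symm)⟩
  have F1 : Frame G x (conjE h r0) := frame_conjE (Subgroup.le_normalizer hh) F0
  set H := G ⊓ stabE x with hHdef
  have hBH : B ≤ Subgroup.normalizer (H : Set GL') := fun b hb => by
    have hbs : b ∈ stabE x := hfix b hb
    rw [Subgroup.mem_normalizer_iff]
    intro g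
    simp only [hHdef, Subgroup.mem_inf]
    refine and_congr (Subgroup.mem_normalizer_iff.mp (hBG hb) g)
      ⟨fun hg => mul_mem (mul_mem hbs hg) (inv_mem hbs), fun hg => ?_⟩
    have := mul_mem (mul_mem (inv_mem hbs) hg) hbs
    simpa [mul_assoc] using this
  obtain ⟨n, hn, hfix'⟩ := exists_fixed hBH
    (hcopB.coprime_dvd_right (Subgroup.card_dvd_of_le inf_le_left)) (conjE h r0) (fun b hb => by
      have hbx : conjE b x = x := hfix b hb
      have F2 : Frame G x (conjE b (conjE h r0)) := by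
        have := frame_conjE (hBG hb) F1
        rwa [hbx] at this
      obtain ⟨g, hg, hgx, hgr⟩ := frames_conj hp F1 F2
      exact ⟨g, ⟨hg, hgx⟩, hgr.symm⟩)
  obtain ⟨hnG, hnx⟩ := hn
  refine ⟨x, conjE n (conjE h r0), ?_, fun a ha hl => ⟨hfix a (hxB a ha hl), hfix' a (hxB a ha hl)⟩⟩
  have := frame_conjE (Subgroup.le_normalizer hnG) F1
  rwa [show conjE n x = x from hnx] at this

/-- The key result. -/
theorem exists_sl2_centralized (hp : 5 ≤ p) (hG : Semi G) (hA : A ≤ Subgroup.normalizer (G : Set GL'))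
    (hcop : (Nat.card A).Coprime (Nat.card G)) (hex : ∃ s, Mem G s) :
    ∃ φ : Matrix.SpecialLinearGroup (Fin 2) (ZMod p) →* GL', (∀ g, φ g ∈ G) ∧
      (∀ a ∈ A, ∀ g, a * φ g = φ g * a) ∧
      φ.ker ≤ Subgroup.center (Matrix.SpecialLinearGroup (Fin 2) (ZMod p)) := by
  classical
  obtain ⟨x, r, F, hfix⟩ := exists_fixed_frame hp hG hA hcop hex
  set B := lineStab hA x with hBdef
  haveI : Fintype (A ⧸ B.subgroupOf A) := Fintype.ofFinite _
  set ψ : A → Matrix.SpecialLinearGroup (Fin 2) (ZMod p) →* GL' := fun a =>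
    (MulAut.conj (a : GL')).toMonoidHom.comp (sl2 F) with hψ
  have hval : ∀ a g, (ψ a g : E') = mat (conjE (a : GL') x) (conjE (a : GL') r) (g.1 0 0) (g.1 0 1) (g.1 1 0) (g.1 1 1) := by
    intro a g
    show ((a : GL') * sl2 F g * (a : GL')⁻¹ : GL').1 = _
    rw [Units.val_mul, Units.val_mul, ← conjE_mat, ← sl2_val F g]
    rfl
  have hψmem : ∀ a g, ψ a g ∈ G := fun a g => normalizer_conj (hA a.2) (sl2_mem F g)
  have hsame : ∀ a b : A, (QuotientGroup.mk a : A ⧸ B.subgroupOf A) = QuotientGroup.mk b → ψ a = ψ b := by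
    intro a b h
    obtain ⟨h1, h2⟩ := hfix _ ((a⁻¹ * b : A).2) (Subgroup.mem_subgroupOf.mp (QuotientGroup.eq.mp h)).2
    refine MonoidHom.ext fun g => Units.ext ?_
    have e : (b : GL') = (a : GL') * ((a⁻¹ * b : A) : GL') := by simp
    rw [hval, hval, e, conjE_mulAction, conjE_mulAction, h1, h2]
  have hcomm : ∀ a b : A, (QuotientGroup.mk a : A ⧸ B.subgroupOf A) ≠ QuotientGroup.mk b → ∀ g g', Commute (ψ a g) (ψ b g') := by
    intro a b h g g'
    have hn : ¬ LRel G (conjE (a : GL') x) (conjE (b : GL') x) := by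
      intro hl
      refine h (QuotientGroup.eq.mpr (Subgroup.mem_subgroupOf.mpr ⟨(a⁻¹ * b : A).2, ?_⟩))
      have := hl.conj (hA (inv_mem a.2))
      rw [conjE_conjE, ← conjE_mulAction] at this
      simpa using this
    have Fa := frame_conjE (hA a.2) F
    have Fb := frame_conjE (hA b.2) F
    have la := LRel.frame Fa
    have lb := LRel.frame Fb
    refine Units.ext ?_
    rw [Units.val_mul, Units.val_mul, hval, hval]
    refine commute_mat ?_ ?_ ?_ ?_ _ _ _ _ _ _ _ _
    · exact commute_of_not_lRel hp hG Fa.left Fb.left hn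
    · exact commute_of_not_lRel hp hG Fa.left Fb.right fun hl => hn (hl.trans lb.symm)
    · exact commute_of_not_lRel hp hG Fa.right Fb.left fun hl => hn (la.trans hl)
    · exact commute_of_not_lRel hp hG Fa.right Fb.right fun hl => hn (la.trans (hl.trans lb.symm))
  set χ : (A ⧸ B.subgroupOf A) → Matrix.SpecialLinearGroup (Fin 2) (ZMod p) →* GL' := fun q => ψ q.out with hχ
  have hχ' : ∀ a : A, χ (QuotientGroup.mk a) = ψ a := fun a => hsame _ _ (Quotient.out_eq _)
  have hpair : Pairwise fun i j => ∀ g g', Commute (χ i g) (χ j g') := fun i j hij g g' =>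
    hcomm _ _ (by rw [QuotientGroup.out_eq', QuotientGroup.out_eq']; exact hij) g g'
  set φ : Matrix.SpecialLinearGroup (Fin 2) (ZMod p) →* GL' :=
    (MonoidHom.noncommPiCoprod χ hpair).comp (MonoidHom.mk' (fun g _ => g) fun _ _ => rfl) with hφ
  have happ : ∀ g, φ g = Finset.univ.noncommProd (fun q => χ q g) (fun i _ j _ hij => hpair hij g g) :=
    fun g => rfl
  refine ⟨φ, fun g => ?_, fun a ha g => ?_, fun g hg => ?_⟩
  · rw [happ]
    exact Subgroup.noncommProd_mem G _ fun q _ => hψmem _ _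
  · have hperm : ∀ q : A ⧸ B.subgroupOf A, (MulAut.conj a).toMonoidHom (χ q g) = χ ((⟨a, ha⟩ : A) • q) g := by
      intro q
      obtain ⟨c, rfl⟩ := QuotientGroup.mk_surjective q
      rw [hχ', MulAction.Quotient.smul_mk, hχ']
      show a * ((c : GL') * sl2 F g * (c : GL')⁻¹) * a⁻¹ = (a * (c : GL')) * sl2 F g * (a * (c : GL'))⁻¹
      group
    have hconj : (MulAut.conj a).toMonoidHom (φ g) = φ g := by
      rw [happ]
      refine (Finset.map_noncommProd _ _ _ _).trans ?_
      simp only [Finset.noncommProd]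
      congr 1
      simp only [hperm]
      conv_rhs => rw [← Multiset.map_univ_val_equiv (MulAction.toPerm (⟨a, ha⟩ : A) : (A ⧸ B.subgroupOf A) ≃ (A ⧸ B.subgroupOf A)), Multiset.map_map]
      rfl
    exact mul_inv_eq_iff_eq_mul.mp hconj
  · rw [MonoidHom.mem_ker, happ] at hg
    replace hg := (Finset.mul_noncommProd_erase _ (Finset.mem_univ (QuotientGroup.mk (1 : A) : A ⧸ B.subgroupOf A))
      (fun q => χ q g) _).trans hg
    rw [Subgroup.mem_center_iff]
    intro g'
    refine sl2_injective F ?_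
    have h1 : ∀ g, χ (QuotientGroup.mk (1 : A)) g = sl2 F g := fun g => by
      rw [hχ']; simp [hψ]
    rw [h1, mul_eq_one_iff_eq_inv] at hg
    have hc : Commute (sl2 F g') (sl2 F g) := by
      rw [hg]
      refine Commute.inv_right (Finset.noncommProd_commute _ _ _ _ fun q hq => ?_)
      rw [← h1]
      exact hpair (Ne.symm (Finset.mem_erase.mp hq).1) g' g
    rw [map_mul, map_mul]
    exact hc.eq

end CfsgLib.QuadFixed
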