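import Cfsg.Agent.Lib.QuadFixed.Stable
import Cfsg.Agent.Lib.ZJ.Stable
import Cfsg.Agent.Lib.ZJ.Center
import Cfsg.Agent.Lib.Basic

/-!
`Z(J(S))` under coprime operators whose fixed points do not involve `PSL₂(p)` (`p ≥ 5`).
-/

set_option autoImplicit false
set_option linter.unusedSectionVars false

namespace CfsgLib.QuadFixed

open Subgroup Cfsg
open scoped commutatorElement

universe u

variable {X : Type u} [Group X] [Finite X] {p : ℕ} [Fact p.Prime]

/-- No subgroup of the fixed points maps onto `PSL₂(p)`. -/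
def FixedFree (p : ℕ) [Fact p.Prime] {X : Type u} [Group X] (G A : Subgroup X) : Prop :=
  ∀ (K : Subgroup X) (f : K →* Matrix.SpecialLinearGroup (Fin 2) (ZMod p) ⧸
    center (Matrix.SpecialLinearGroup (Fin 2) (ZMod p))), K ≤ G ⊓ centralizer (A : Set X) → ¬ Function.Surjective f

/-- Stability. -/
theorem quadStable_fixed (hp : 5 ≤ p) (G A : Subgroup X) [G.Normal] (hcop : (Nat.card A).Coprime (Nat.card G))
    (hpG : ∀ g : X, (∃ k, g ^ p ^ k = 1) → g ∈ G) (hfree : FixedFree p G A) : ZJ.QuadStable p X := by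
  intro V hVn hV a ha hq
  set C := centralizer (V : Set X) with hC
  by_contra hout
  obtain ⟨K, f, hK, hf⟩ := exists_sl2_fixed hp _ G A V rfl hV hcop (hpG a ha) (Quadratic.quad_pointwise hq)
    (fun N hNn _ hNp haN => hout (le_pCore (N := N.map (QuotientGroup.mk' C))
      (hN := hNn.map _ (QuotientGroup.mk'_surjective _)) (ZJ.isPGroup_map_of_pResidual hNp) (mem_map_of_mem _ haN)))
  exact hfree K f hK hf

/-- Fixed points in a quotient by a normal subgroup inside `G`. -/
theorem fixedFree_quotient (G A M : Subgroup X) [G.Normal] [M.Normal] (hMG : M ≤ G)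
    (hcop : (Nat.card A).Coprime (Nat.card G)) (hfree : FixedFree p G A) :
    FixedFree p (G.map (QuotientGroup.mk' M)) (A.map (QuotientGroup.mk' M)) := by
  intro K f hK hf
  set π := QuotientGroup.mk' M with hπ
  set L := K.comap π ⊓ (G ⊓ centralizer (A : Set X)) with hL
  refine hfree L (f.comp ((π.comp L.subtype).codRestrict K fun x => x.2.1)) inf_le_right (hf.comp fun k => ?_)
  obtain ⟨⟨g, hg, hgk⟩, hkA⟩ := hK k.2
  obtain ⟨c, hc, hgc⟩ := coprime_fixed_quotient (K := G) (N := M)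
    (by intro x _; rw [normalizer_eq_top]; trivial) hcop (solvable_or_of_coprime hcop) hMG
    (by intro x _; rw [normalizer_eq_top]; trivial) (by intro x _; rw [normalizer_eq_top]; trivial) hg
    (fun x hx => by
      rw [← QuotientGroup.eq_one_iff (N := M)]
      show π (x * g * x⁻¹ * g⁻¹) = 1
      rw [map_mul, map_mul, map_mul, map_inv, map_inv, hgk, hkA _ (mem_map_of_mem π hx)]
      group)
  have e1 : π c = k := by
    have h2 : π (g⁻¹ * c) = 1 := (QuotientGroup.eq_one_iff _).mpr hgc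
    rwa [map_mul, map_inv, inv_mul_eq_one, hgk, eq_comm] at h2
  exact ⟨⟨c, (show π c ∈ K by rw [e1]; exact k.2), hc⟩, Subtype.ext e1⟩

/-- The `Z(J)` theorem relative to coprime operators. -/
theorem zj_normal_fixed (hp : 5 ≤ p) {e : ℕ} (he : e = 0 ∨ e = p) (G A : Subgroup X) [G.Normal]
    (hcop : (Nat.card A).Coprime (Nat.card G)) (hpG : ∀ g : X, (∃ k, g ^ p ^ k = 1) → g ∈ G)
    (hfree : FixedFree p G A) (hc : G ⊓ centralizer (pCore p X : Set X) ≤ pCore p X) (S : Sylow p X) :
    (ZJ.zj e (S : Subgroup X)).Normal := by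
  have hp2 : p ≠ 2 := by omega
  have hst := quadStable_fixed hp G A hcop hpG hfree
  set Z := ZJ.zj e (S : Subgroup X) with hZ
  set O := pCore p X with hO
  set C := centralizer (O : Set X) with hC
  have hle : Z ≤ O := by
    intro z hz
    have hq : ⁅⁅O, zpowers z⁆, zpowers z⁆ = ⊥ := by
      have hcomm : ⁅O, zpowers z⁆ ≤ Z := by
        rw [commutator_le]
        intro b hb x hx
        have hxZ : x ∈ Z := (zpowers_le.mpr hz) hx
        have h1 := (mem_normalizer_iff.mp
          ((le_normalizer.trans (ZJ.normalizer_le_normalizer_zj e _)) (pCore_le_sylow S hb)) x).mp hxZ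
        have h2 := Z.mul_mem h1 (Z.inv_mem hxZ)
        simpa [commutatorElement_def, mul_assoc] using h2
      rw [eq_bot_iff, commutator_le]
      intro y hy x hx
      rw [mem_bot, commutatorElement_eq_one_iff_mul_comm]
      exact ZJ.zj_comm (hcomm hy) ((zpowers_le.mpr hz) hx)
    have hzp := ZJ.exists_pow_eq_one_of_mem S.2 (ZJ.zj_le e _ hz)
    have h := hst O (isPGroup_pCore p) z hzp hq
    set D := (pCore p (X ⧸ C)).comap (QuotientGroup.mk' C) with hD
    haveI : D.Normal := normal_comap _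
    have hDp : IsPGroup p ((D ⊓ G : Subgroup X)) := by
      intro g
      obtain ⟨k, hk⟩ := isPGroup_pCore p ⟨_, g.2.1⟩
      have h1 : (g : X) ^ p ^ k ∈ O := hc ⟨pow_mem g.2.2 _, by
        show (g : X) ^ p ^ k ∈ C
        rw [← QuotientGroup.eq_one_iff (N := C)]
        exact congrArg Subtype.val hk⟩
      obtain ⟨l, hl⟩ := ZJ.exists_pow_eq_one_of_mem (isPGroup_pCore p) h1
      exact ⟨k + l, Subtype.ext (by rw [SubmonoidClass.coe_pow, pow_add, pow_mul, hl]; rfl)⟩
    exact le_pCore hDp ⟨h, hpG z hzp⟩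
  have := ZJ.inf_zj_normal hp2 he hst S O inferInstance (isPGroup_pCore p)
  rwa [← hZ, inf_eq_right.mpr hle] at this

/-- A `p`-subgroup normal modulo a normal `p'`-subgroup. -/
theorem sup_normalizer_eq_top_of_coprime {M Z : Subgroup X} [M.Normal] (hM : (Nat.card M).Coprime p)
    (hZ : IsPGroup p Z) (hn : (M ⊔ Z).Normal) : M ⊔ normalizer (Z : Set X) = ⊤ := by
  set N := M ⊔ Z with hN
  haveI := hn
  obtain ⟨P, hP⟩ := (hZ.of_equiv (subgroupOfEquivOfLe (le_sup_right : Z ≤ N)).symm).exists_le_sylow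
  have hPZ : (P : Subgroup N).map N.subtype = Z := by
    refine le_antisymm ?_ fun z hz => ⟨⟨z, mem_sup_right hz⟩, hP (show (⟨z, _⟩ : N) ∈ Z.subgroupOf N from hz), rfl⟩
    rintro _ ⟨x, hx, rfl⟩
    obtain ⟨m, hm, z, hz, e⟩ := mem_sup_of_normal_left.mp x.2
    have hmx : (⟨m, mem_sup_left hm⟩ : N) ∈ (P : Subgroup N) := by
      have h1 : (⟨m, mem_sup_left hm⟩ : N) = x * (⟨z, mem_sup_right hz⟩ : N)⁻¹ := Subtype.ext (by
        show m = (x : X) * z⁻¹
        rw [← e, mul_inv_cancel_right])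
      rw [h1]
      exact mul_mem hx (inv_mem (hP (show (⟨z, _⟩ : N) ∈ Z.subgroupOf N from hz)))
    obtain ⟨k, hk⟩ := P.2 ⟨_, hmx⟩
    have hm1 : m = 1 := orderOf_eq_one_iff.mp (Nat.eq_one_of_dvd_coprimes (hM.pow_right k)
      (orderOf_dvd_natCard M hm) (orderOf_dvd_of_pow_eq_one (congrArg (fun y : (P : Subgroup N) => ((y : N) : X)) hk)))
    show (x : X) ∈ Z
    rw [← e, hm1, one_mul]; exact hz
  have h := Sylow.normalizer_sup_eq_top P
  rw [hPZ] at h
  refine top_le_iff.mp (h ▸ sup_le le_sup_right (sup_le le_sup_left ?_))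
  exact le_normalizer.trans le_sup_right

end CfsgLib.QuadFixed
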